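import Cfsg.Agent.TICentralizers.Basic
import Cfsg.Agent.OddLocal.CNSolvable
import Cfsg.Agent.S0069

/-!
# Groups with TI element centralisers and a normal component are Frobenius groups
-/

set_option autoImplicit false
set_option linter.unusedSectionVars false
set_option linter.style.haveILetI false

namespace Cfsg.Lib.TICent

open Subgroup

universe u

variable {G : Type u} [Group G] [Finite G]

theorem quaternion_small {Q : Type*} [Group Q] {k : ℕ} (e : Q ≃* QuaternionGroup (2 ^ k))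
    (h : ∀ g q : Q, g * q * g⁻¹ * q = q * (g * q * g⁻¹)) : k ≤ 1 := by
  by_contra hk
  have h4 : 4 ≤ 2 ^ k := le_trans (by norm_num) (Nat.pow_le_pow_right two_pos (show 2 ≤ k by omega))
  have h1 := congrArg e (h (e.symm (QuaternionGroup.a 1)) (e.symm (QuaternionGroup.xa 0)))
  simp only [map_mul, map_inv, MulEquiv.apply_symm_apply] at h1
  have h2 : (QuaternionGroup.a 1 * QuaternionGroup.xa 0 * (QuaternionGroup.a 1)⁻¹ :
      QuaternionGroup (2 ^ k)) = QuaternionGroup.xa (-2) := by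
    rw [mul_inv_eq_iff_eq_mul, QuaternionGroup.a_mul_xa, QuaternionGroup.xa_mul_a]
    congr 1; ring
  rw [h2, QuaternionGroup.xa_mul_xa, QuaternionGroup.xa_mul_xa, QuaternionGroup.a.injEq] at h1
  have h5 : ((4 : ℕ) : ZMod (2 * 2 ^ k)) = 0 := by
    push_cast
    linear_combination h1
  rw [ZMod.natCast_eq_zero_iff] at h5
  exact absurd (Nat.le_of_dvd (by norm_num) h5) (by omega)

/-- A normal component gives a Frobenius group with a restricted complement. -/
theorem frobenius_case (hT : Hyp G) (hnn : ¬ Group.IsNilpotent G) {x : G} (hx : x ≠ 1) (hN : nc x = ⊤) :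
    ∃ H : Subgroup G, Cfsg.IsFrobeniusComplement H ∧
      (IsCyclic H ∨ ∃ m : ℕ, Odd m ∧ Nonempty (H ≃* Multiplicative (ZMod m) × QuaternionGroup 2)) := by
  classical
  set K := comp x
  haveI hKn : K.Normal := normalizer_eq_top_iff.1 (by rw [normalizer_comp hT hx, hN])
  have hK1 : K ≠ ⊥ := fun h => hx (mem_bot.1 (h ▸ self_mem_comp x))
  obtain ⟨E, hE⟩ := exists_right_complement'_of_coprime (coprime_comp hT hx)
  have hE1 : E ≠ ⊥ := fun h => comp_ne_top hnn x (isComplement'_bot_right.1 (h ▸ hE))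
  have hfpf : ∀ e ∈ E, e ≠ 1 → K ⊓ centralizer ({e} : Set G) = ⊥ := fun e he he1 => by
    rw [eq_bot_iff]
    rintro k ⟨hk, hkc⟩
    by_contra hk1
    exact he1 (disjoint_def.1 hE.disjoint (cent_le_comp_of_mem hT hx hk (fun h => hk1 (mem_bot.2 h))
      (mem_centralizer_singleton_iff.2 (mem_centralizer_singleton_iff.1 hkc).symm)) he)
  refine ⟨E, (Cfsg.Lib.Frobenius.isFrobeniusComplement_iff_fpf hE hK1 hE1).2 hfpf, ?_⟩
  have hTE := hyp_subgroup hT E
  have hzE := Cfsg.Agent.S0069.result K E hE hK1 hE1 hfpf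
  have hEnil := nilpotent_of_center hTE hzE
  obtain ⟨⟨z, hz⟩, hz1⟩ := Subgroup.ne_bot_iff_exists_ne_one.1 hzE
  have hz1' : z ≠ 1 := fun e => hz1 (Subtype.ext e)
  have hzt : nc z = ⊤ := eq_top_iff.2 fun g _ => cent_le_nc z
    (mem_centralizer_singleton_iff.2 (mem_center_iff.1 hz g))
  have hEt : ∀ g q : E, g * q * g⁻¹ * q = q * (g * q * g⁻¹) := fun g q => by
    rcases eq_or_ne q 1 with rfl | hq
    · simp
    · refine conj_commute_of_mem_nc ?_
      rw [nc_eq_of_commute hTE hq hz1' (mem_center_iff.1 hz q), hzt]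
      exact mem_top g
  rcases Cfsg.Lib.CN.cyclic_or_quaternion_product hEnil (by rw [normalizer_eq_top]; exact le_top) hfpf hK1 with
    hc | ⟨C, Q, hsup, hcomm, hCc, hCodd, n, ⟨eQ⟩⟩
  · exact Or.inl hc
  have hCE : C ≤ E := hsup ▸ le_sup_left
  have hQE : Q ≤ E := hsup ▸ le_sup_right
  have hn1 : n ≤ 1 := quaternion_small eQ fun g q => Subtype.ext
    (congrArg Subtype.val (hEt ⟨g, hQE g.2⟩ ⟨q, hQE q.2⟩) : _)
  have hQcard : Nat.card Q = 4 * 2 ^ n := by
    rw [Nat.card_congr eQ.toEquiv]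
    haveI : NeZero (2 ^ n) := ⟨(Nat.two_pow_pos n).ne'⟩
    rw [Nat.card_eq_fintype_card, QuaternionGroup.card]
  have hcop : (Nat.card C).Coprime (Nat.card Q) := by
    rw [hQcard, show 4 * 2 ^ n = 2 ^ (n + 2) by ring]
    exact Nat.Coprime.pow_right _ (Nat.coprime_two_right.2 hCodd)
  have hdisj : Disjoint C Q := disjoint_iff.2 (inf_eq_bot_of_coprime hcop)
  let φ : C × Q →* G := MonoidHom.noncommCoprod C.subtype Q.subtype fun a b => hcomm a a.2 b b.2
  have hφi : Function.Injective φ := by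
    rw [injective_iff_map_eq_one]
    rintro ⟨a, b⟩ h
    have h1 : (a : G) * b = 1 := h
    have ha : (a : G) = 1 := disjoint_def.1 hdisj a.2 (by
      rw [eq_inv_of_mul_eq_one_left h1]
      exact Q.inv_mem b.2)
    rw [ha, one_mul] at h1
    exact Prod.ext (Subtype.ext ha) (Subtype.ext h1)
  have hφr : φ.range = E := by
    refine le_antisymm ?_ ?_
    · rintro _ ⟨⟨a, b⟩, rfl⟩
      exact E.mul_mem (hCE a.2) (hQE b.2)
    · rw [← hsup]
      refine sup_le (fun a ha => ⟨(⟨a, ha⟩, 1), ?_⟩) fun b hb => ⟨(1, ⟨b, hb⟩), ?_⟩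
      · show a * ((1 : Q) : G) = a
        rw [OneMemClass.coe_one, mul_one]
      · show ((1 : C) : G) * b = b
        rw [OneMemClass.coe_one, one_mul]
  let eE : C × Q ≃* E := (MonoidHom.ofInjective hφi).trans (MulEquiv.subgroupCongr hφr)
  haveI : NeZero (Nat.card C) := ⟨Nat.card_pos.ne'⟩
  haveI := hCc
  rcases (show n = 0 ∨ n = 1 by omega) with rfl | rfl
  · left
    obtain ⟨c, hc⟩ := IsCyclic.exists_ofOrder_eq_natCard (α := C)
    refine isCyclic_of_orderOf_eq_card (eE (c, eQ.symm (QuaternionGroup.xa 0))) ?_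
    rw [MulEquiv.orderOf_eq, Prod.orderOf, MulEquiv.orderOf_eq, Nat.card_congr eE.symm.toEquiv,
      Nat.card_prod, hc, hQcard]
    rw [show orderOf (QuaternionGroup.xa (0 : ZMod (2 * 2 ^ 0))) = 4 from QuaternionGroup.orderOf_xa 0]
    exact Nat.Coprime.lcm_eq_mul (by simpa [hQcard] using hcop)
  · right
    refine ⟨Nat.card C, hCodd, ⟨eE.symm.trans (MulEquiv.prodCongr ?_ (eQ.trans (MulEquiv.refl _)))⟩⟩
    exact mulEquivOfCyclicCardEq (by simp)

end Cfsg.Lib.TICent
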