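import Cfsg.Agent.TICentralizers.Points
import Cfsg.Agent.InvolCalc.CASimple
import Cfsg.Agent.ZTGroups.Main
import Cfsg.Agent.RankOne.Zassenhaus

/-!
# Groups with TI element centralisers and no abelian normal subgroup are `PSL(2, 2^f)`
-/

set_option autoImplicit false
set_option linter.unusedSectionVars false
set_option linter.style.haveILetI false

namespace Cfsg.Lib.TICent

open Subgroup MulAction
open Cfsg.Lib.InvolCalc

universe u

variable {G : Type u} [Group G] [Finite G] {t : G}

theorem zassenhaus (S : Setup G) (ht : orderOf t = 2) : Cfsg.IsZassenhausGroup G (Pt t) := by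
  obtain ⟨u, hu, hun⟩ := S.exists_outside ht
  have hab : base t ≠ u • base t := fun e => hun (smul_base_eq_iff.1 e.symm)
  refine ⟨faithful S ht, two_transitive S ht, fun g a b c hab hbc hac ha hb hc =>
    three_point S ht hab hbc hac ha hb hc, ?_, fun M hM hMt => ?_⟩
  · obtain ⟨x, hx, hx1⟩ := exists_pair_ne_one S ht hab
    exact ⟨x, hx1, _, _, hab, hx.1, hx.2⟩
  · by_contra h
    push Not at h
    haveI := faithful S ht
    have hbot := S.noab M hM
      (Cfsg.Lib.RankOne.regular_normal_abelian (two_transitive S ht) hM h)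
    obtain ⟨⟨m, hm⟩, hme⟩ := hMt.exists_smul_eq (base t) (u • base t)
    rw [hbot, mem_bot] at hm
    subst hm
    exact hab ((one_smul G (base t)).symm.trans hme)

theorem not_nonabelian (S : Setup G) [IsSimpleGroup G] (ht : orderOf t = 2) :
    ∀ x ∈ comp t, ∀ y ∈ comp t, x * y = y * x := by
  classical
  by_contra hna
  push Not at hna
  obtain ⟨x₀, hx₀, y₀, hy₀, hxy⟩ := hna
  have ht1 := ne_one_of_order_two ht
  obtain ⟨u, hu, hun⟩ := S.exists_outside ht
  have hab : base t ≠ u • base t := fun e => hun (smul_base_eq_iff.1 e.symm)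
  set a := base t
  set b := u • base t
  haveI : Fintype (Pt t) := Fintype.ofFinite _
  have hZ := zassenhaus S ht
  have hcard : Nat.card (comp t) + 1 = Fintype.card (Pt t) := by
    rw [← Nat.card_eq_fintype_card, (orbit_regular S ht).1]
  have hHa : comp t ≤ stabilizer G a := fun w hw => smul_base_eq_iff.2 (comp_le_nc t hw)
  have hfix : ∀ w ∈ comp t, w ≠ 1 → ∀ c : Pt t, w • c = c → c = a := fun w hw hw1 c hc =>
    by_contra fun hne => hw1 (comp_meet_base S ht hw hne hc)
  have he : Nat.card (Cfsg.Lib.OddChar.Zassenhaus.stab₂ G a b) = ninv t := card_pair S ht hab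
  rcases Cfsg.Lib.OddChar.Zassenhaus.feit_inequality hZ hab hcard.symm he (S.ninv_odd ht) hHa hcard hfix with
    hle | ⟨hp2, huv, -⟩
  · have := (Cfsg.Lib.RankOne.kernel_elementary hZ hab (by rw [he]; omega) hHa hcard hfix).1
    exact hxy (congrArg Subtype.val (mul_comm' (⟨x₀, hx₀⟩ : comp t) ⟨y₀, hy₀⟩))
  have C := Cfsg.Lib.ZTGroups.core_of_kernel hZ hab hHa hcard hfix hp2 huv
  obtain ⟨n, -, -, hh, he'⟩ := C.parameters
  have hcen := C.card_center
  refine hxy (congrArg Subtype.val (mem_center_iff.1 (?_ : (⟨y₀, hy₀⟩ : comp t) ∈ center (comp t)) ⟨x₀, hx₀⟩))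
  by_contra hyz
  set y : comp t := ⟨y₀, hy₀⟩
  have hy2 : y * y ≠ 1 := fun e => hyz ((C.center_iff y).2 e)
  have hy1 : (y : G) ≠ 1 := fun e => hy2 (by rw [show y = 1 from Subtype.ext e, one_mul])
  have hy2' : (y : G) * y ≠ 1 := fun e => hy2 (Subtype.ext e)
  have hncy : nc (y : G) = nc t := nc_eq_of_mem_comp S.hT ht1 hy₀ hy1
  have hzy : ∀ z : center (comp t), ∀ w ∈ comp t, (z : G) * w = w * z := fun z w hw =>
    congrArg Subtype.val (mem_center_iff.1 z.2 ⟨w, hw⟩).symm
  have hz2 : ∀ z : center (comp t), (z : G) * z = 1 := fun z =>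
    congrArg Subtype.val ((C.center_iff z.1).1 z.2)
  have hEnc : ∀ k : Cfsg.Lib.OddChar.Zassenhaus.stab₂ G a b, (k : G) ∈ nc t := fun k =>
    smul_base_eq_iff.1 k.2.1
  have hky : ∀ k : Cfsg.Lib.OddChar.Zassenhaus.stab₂ G a b,
      (k : G) * y * (k : G)⁻¹ ∈ centralizer ({(y : G)} : Set G) := fun k =>
    (mem_normalizer_iff.1 (show (k : G) ∈ nc (y : G) by rw [hncy]; exact hEnc k) y).1 (self_mem_cent _)
  have hzc : ∀ z : center (comp t), ((z : comp t) : G) ∈ centralizer ({(y : G)} : Set G) := fun z =>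
    mem_centralizer_singleton_iff.2 (hzy z y y.2)
  let f : Option (Cfsg.Lib.OddChar.Zassenhaus.stab₂ G a b) × center (comp t) →
      centralizer ({(y : G)} : Set G) := fun p =>
    match p.1 with
    | none => ⟨p.2, hzc p.2⟩
    | some k => ⟨(k : G) * y * (k : G)⁻¹ * p.2, mul_mem (hky k) (hzc p.2)⟩
  have hsq : ∀ (k : Cfsg.Lib.OddChar.Zassenhaus.stab₂ G a b) (z : center (comp t)),
      (k : G) * y * (k : G)⁻¹ * z * ((k : G) * y * (k : G)⁻¹ * z) = (k : G) * ((y : G) * y) * (k : G)⁻¹ := by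
    intro k z
    have h1 := hzy z _ ((comp_conj_mem S.hT ht1 (hEnc k)).2 y.2)
    calc (k : G) * y * (k : G)⁻¹ * z * ((k : G) * y * (k : G)⁻¹ * z)
        = (k : G) * y * (k : G)⁻¹ * ((z : G) * ((k : G) * y * (k : G)⁻¹)) * z := by group
      _ = ((k : G) * y * (k : G)⁻¹ * ((k : G) * y * (k : G)⁻¹)) * ((z : G) * z) := by rw [h1]; group
      _ = (k : G) * ((y : G) * y) * (k : G)⁻¹ := by rw [hz2]; group
  have hfi : Function.Injective f := by
    rintro ⟨k, z⟩ ⟨l, z'⟩ h
    have h0 : ∀ (k : Cfsg.Lib.OddChar.Zassenhaus.stab₂ G a b) (z z' : center (comp t)),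
        (k : G) * y * (k : G)⁻¹ * z ≠ (z' : G) := by
      intro k z z' e
      have h1 := hsq k z
      rw [e, hz2] at h1
      exact hy2' (conj_eq_one_iff.1 h1.symm)
    rcases k with _ | k <;> rcases l with _ | l
    · have h' : ((z : comp t) : G) = z' := congrArg (Subtype.val (p := fun g => g ∈ centralizer ({(y : G)} : Set G))) h
      rw [show z = z' from Subtype.ext (Subtype.ext h')]
    · exact absurd (congrArg Subtype.val h).symm (h0 l z' z)
    · exact absurd (congrArg Subtype.val h) (h0 k z z')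
    · have h' : (k : G) * y * (k : G)⁻¹ * z = (l : G) * y * (l : G)⁻¹ * z' := congrArg Subtype.val h
      have h1 := hsq k z
      rw [h', hsq l z'] at h1
      have hkl : (l : G)⁻¹ * k = 1 := by
        refine comp_meet_base S ht (cent_le_comp_of_mem S.hT ht1 ((comp t).mul_mem y.2 y.2) hy2'
          (mem_centralizer_singleton_iff.2 ?_)) (c := b) (Ne.symm hab) ?_
        · calc (l : G)⁻¹ * k * ((y : G) * y) = (l : G)⁻¹ * ((k : G) * ((y : G) * y) * (k : G)⁻¹) * k := by group
            _ = (l : G)⁻¹ * ((l : G) * ((y : G) * y) * (l : G)⁻¹) * k := by rw [← h1]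
            _ = (y : G) * y * ((l : G)⁻¹ * k) := by group
        · rw [mul_smul, k.2.2]
          exact inv_smul_eq_iff.2 l.2.2.symm
      obtain rfl : k = l := Subtype.ext (inv_mul_eq_one.1 hkl).symm
      rw [show z = z' from Subtype.ext (Subtype.ext (mul_left_cancel h'))]
  have hle := Nat.card_le_card_of_injective f hfi
  rw [Nat.card_prod, Finite.card_option, hcen, ← pow_two, he', ← hh] at hle
  have heq : centralizer ({(y : G)} : Set G) = comp t :=
    Subgroup.eq_of_le_of_card_ge (cent_le_comp_of_mem S.hT ht1 hy₀ hy1) hle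
  exact hyz (mem_center_iff.2 fun w => Subtype.ext
    (mem_centralizer_singleton_iff.1 (heq.symm ▸ w.2 : (w : G) ∈ centralizer ({(y : G)} : Set G))))

/-- The simple case. -/
theorem simple_case (S : Setup G) [IsSimpleGroup G] :
    ∃ (F : Type) (_ : Field F) (_ : Fintype F) (f : ℕ), 2 ≤ f ∧ Fintype.card F = 2 ^ f ∧
      Nonempty (G ≃* Matrix.ProjectiveSpecialLinearGroup (Fin 2) F) := by
  obtain ⟨t, ht⟩ := S.exists_invol
  have ht1 := ne_one_of_order_two ht
  have hab := not_nonabelian S ht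
  have hA : Cfsg.Lib.CASimple.Setup (comp t) := by
    refine ⟨hab, fun y hy hy1 => le_antisymm (cent_le_comp_of_mem S.hT ht1 hy hy1) fun w hw =>
      mem_centralizer_singleton_iff.2 (hab w hw y hy), ⟨t, self_mem_comp t, ht⟩, fun e => ?_⟩
    exact S.nc_ne_top ht1 (top_le_iff.1 (e ▸ comp_le_nc t))
  obtain ⟨F, i1, i2, f, hf, hF, -, e⟩ := Cfsg.Lib.CASimple.psl hA
  exact ⟨F, i1, i2, f, hf, hF, e⟩

theorem mem_nc_iff_commute (S : Setup G) (ht : orderOf t = 2) {s : G} (hs : orderOf s = 2) :
    s ∈ nc t ↔ s * t = t * s :=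
  ⟨fun h => (S.comp_comm ht (S.invol_mem ht hs h)).symm,
    fun h => cent_le_nc t (mem_centralizer_singleton_iff.2 h)⟩

theorem card_inv_eq (S : Setup G) (ht : orderOf t = 2) :
    Nat.card {s : G // orderOf s = 2} = ninv t * (Nat.card (comp t) + 1) := by
  rw [S.card_inv ht, ← S.ninv_mul_index ht, ← (orbit_regular S ht).1]
  rfl

/-- A group of the second case is simple. -/
theorem isSimple (S : Setup G) : IsSimpleGroup G := by
  classical
  haveI := S.nt
  refine ⟨fun L hL => or_iff_not_imp_left.2 fun hne => ?_⟩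
  haveI := hL
  haveI : Nontrivial L := (nontrivial_iff_ne_bot L).2 hne
  have SL : Setup L := by
    refine ⟨hyp_subgroup S.hT L, inferInstance, fun A hA hab => ?_⟩
    haveI := hA
    have hAnil : Group.IsNilpotent A :=
      letI : CommGroup A :=
        { (inferInstance : Group A) with
          mul_comm := fun x y => Subtype.ext (hab x x.2 y y.2) }
      CommGroup.isNilpotent
    haveI : ((Cfsg.fittingSubgroup L).map L.subtype).Normal := ConjAct.normal_of_characteristic_of_normal
    have h1 := S.nilpotent_normal_eq_bot (N := (Cfsg.fittingSubgroup L).map L.subtype)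
      (Cfsg.Lib.Components.isNilpotent_map Cfsg.Lib.Components.isNilpotent_fitting _)
    rw [Subgroup.map_eq_bot_iff_of_injective _ L.subtype_injective] at h1
    exact le_bot_iff.1 (h1 ▸ Cfsg.Lib.Components.le_fitting hAnil)
  obtain ⟨tL, htL⟩ := SL.exists_invol
  have ht : orderOf (tL : G) = 2 := (Subgroup.orderOf_coe tL).trans htL
  have hall : ∀ s : G, orderOf s = 2 → s ∈ L := fun s hs => by
    obtain ⟨g, rfl⟩ := S.conj_all ht hs
    exact hL.conj_mem _ tL.2 g
  have e1 : Nat.card {s : L // orderOf s = 2} = Nat.card {s : G // orderOf s = 2} :=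
    Nat.card_congr
      ⟨fun s => ⟨s.1.1, (Subgroup.orderOf_coe s.1).trans s.2⟩,
        fun s => ⟨⟨s.1, hall s.1 s.2⟩, (Subgroup.orderOf_mk s.1 _).trans s.2⟩,
        fun _ => rfl, fun _ => rfl⟩
  have e2 : ninv tL = ninv (tL : G) := by
    refine Nat.card_congr
      ⟨fun s => ⟨s.1.1, (Subgroup.orderOf_coe s.1).trans s.2.1,
          (mem_nc_iff_commute S ht ((Subgroup.orderOf_coe s.1).trans s.2.1)).2
            (congrArg Subtype.val ((mem_nc_iff_commute SL htL s.2.1).1 s.2.2))⟩,
        fun s => ⟨⟨s.1, hall s.1 s.2.1⟩, (Subgroup.orderOf_mk s.1 _).trans s.2.1,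
          (mem_nc_iff_commute SL htL ((Subgroup.orderOf_mk s.1 _).trans s.2.1)).2
            (Subtype.ext ((mem_nc_iff_commute S ht s.2.1).1 s.2.2))⟩,
        fun _ => rfl, fun _ => rfl⟩
  have e3 : Nat.card (comp tL) = Nat.card (comp (tL : G)) := by
    have h := card_inv_eq SL htL
    rw [e1, card_inv_eq S ht, e2] at h
    have := Nat.eq_of_mul_eq_mul_left (S.ninv_odd ht).pos h
    omega
  apply Subgroup.eq_top_of_card_eq
  rw [← (comp tL).card_mul_index, ← (comp (tL : G)).card_mul_index, ← SL.card_inv htL,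
    ← S.card_inv ht, e1, e3]

end Cfsg.Lib.TICent
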