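import Mathlib
import Cfsg.Prelude.Def_OddOrderLocal
import Cfsg.Prelude.Def_LieExceptional
import Cfsg.Agent.Components.Cores
import Cfsg.Agent.Components.GenFitting
import Cfsg.Agent.Coprime.SolvableBasics
import Cfsg.Agent.OddLocal.FittingHall

/-!
# Groups in which every element centraliser is a TI-subset: the nilpotent components
-/

set_option autoImplicit false
set_option linter.unusedSectionVars false
set_option linter.style.haveILetI false

namespace Cfsg.Lib.TICent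

open Subgroup

universe u

variable {G : Type u} [Group G]

/-- All element centralisers are TI-subsets. -/
def Hyp (G : Type u) [Group G] : Prop :=
  ∀ x : G, Cfsg.IsTISubset (centralizer ({x} : Set G) : Set G)

/-- The normaliser of the centraliser of an element. -/
abbrev nc (x : G) : Subgroup G := normalizer (centralizer ({x} : Set G) : Set G)

theorem self_mem_cent (x : G) : x ∈ centralizer ({x} : Set G) := mem_centralizer_singleton_iff.2 rfl

theorem self_mem_nc (x : G) : x ∈ nc x := le_normalizer (self_mem_cent x)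

theorem cent_le_nc (x : G) : centralizer ({x} : Set G) ≤ nc x := le_normalizer

theorem cent_conj (g x y : G) :
    g * y * g⁻¹ ∈ centralizer ({g * x * g⁻¹} : Set G) ↔ y ∈ centralizer ({x} : Set G) := by
  rw [mem_centralizer_singleton_iff, mem_centralizer_singleton_iff, conj_mul, conj_mul,
    mul_left_inj, mul_right_inj]

theorem nc_conj (g x y : G) : g * y * g⁻¹ ∈ nc (g * x * g⁻¹) ↔ y ∈ nc x := by
  constructor <;> intro h <;> rw [mem_normalizer_iff] at h ⊢
  · intro z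
    have := h (g * z * g⁻¹)
    rw [cent_conj, show g * y * g⁻¹ * (g * z * g⁻¹) * (g * y * g⁻¹)⁻¹ = g * (y * z * y⁻¹) * g⁻¹ by group,
      cent_conj] at this
    exact this
  · intro z
    have := h (g⁻¹ * z * g)
    rw [← cent_conj g x, ← cent_conj g x (y * (g⁻¹ * z * g) * y⁻¹),
      show g * (g⁻¹ * z * g) * g⁻¹ = z by group,
      show g * (y * (g⁻¹ * z * g) * y⁻¹) * g⁻¹ = g * y * g⁻¹ * z * (g * y * g⁻¹)⁻¹ by group] at this
    exact this

theorem nc_conj_iff (g : G) {x x' : G} : nc (g * x * g⁻¹) = nc (g * x' * g⁻¹) ↔ nc x = nc x' := by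
  constructor
  · intro h
    ext y
    rw [← nc_conj g x, ← nc_conj g x', h]
  · intro h
    ext y
    rw [show y = g * (g⁻¹ * y * g) * g⁻¹ by group, nc_conj, nc_conj, h]

theorem nc_le_of_commute (hT : Hyp G) {a b : G} (ha : a ≠ 1) (hab : a * b = b * a) : nc a ≤ nc b := by
  intro g hg
  by_contra hgb
  refine ha (hT b g hgb a (mem_centralizer_singleton_iff.2 hab) (mem_centralizer_singleton_iff.2 ?_))
  have h1 : g⁻¹ * b * g⁻¹⁻¹ ∈ centralizer ({a} : Set G) :=
    (mem_normalizer_iff.1 ((nc a).inv_mem hg) b).1 (mem_centralizer_singleton_iff.2 hab.symm)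
  rw [inv_inv, mem_centralizer_singleton_iff] at h1
  calc g * a * g⁻¹ * b = g * (a * (g⁻¹ * b * g)) * g⁻¹ := by group
    _ = g * (g⁻¹ * b * g * a) * g⁻¹ := by rw [h1]
    _ = b * (g * a * g⁻¹) := by group

theorem nc_eq_of_commute (hT : Hyp G) {a b : G} (ha : a ≠ 1) (hb : b ≠ 1) (hab : a * b = b * a) :
    nc a = nc b :=
  le_antisymm (nc_le_of_commute hT ha hab) (nc_le_of_commute hT hb hab.symm)

/-- The hypothesis passes to subgroups. -/
theorem hyp_subgroup (hT : Hyp G) (M : Subgroup G) : Hyp M := by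
  intro x g hg y hy hgy
  have hc : ∀ z : M, z ∈ centralizer ({x} : Set M) ↔ (z : G) ∈ centralizer ({(x : G)} : Set G) := fun z => by
    rw [mem_centralizer_singleton_iff, mem_centralizer_singleton_iff, Subtype.ext_iff]; rfl
  refine Subtype.ext (hT x g (fun hgn => hg (mem_normalizer_iff.2 fun z => ?_)) y ((hc y).1 hy) ((hc _).1 hgy))
  rw [hc, hc]
  exact mem_normalizer_iff.1 hgn z

/-- An element whose conjugates all commute with it has abelian normal closure. -/
theorem normalClosure_comm {y : G} (h : ∀ g : G, g * y * g⁻¹ * y = y * (g * y * g⁻¹)) :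
    IsMulCommutative (normalClosure ({y} : Set G)) := by
  refine isMulCommutative_closure fun a ha b hb => ?_
  obtain ⟨z, hz, hz'⟩ := Group.mem_conjugatesOfSet_iff.1 ha
  obtain ⟨w, hw, hw'⟩ := Group.mem_conjugatesOfSet_iff.1 hb
  rw [Set.mem_singleton_iff] at hz hw
  rw [hz] at hz'
  rw [hw] at hw'
  obtain ⟨c, rfl⟩ := isConj_iff.1 hz'
  obtain ⟨d, rfl⟩ := isConj_iff.1 hw'
  have := h (d⁻¹ * c)
  calc c * y * c⁻¹ * (d * y * d⁻¹) = d * (d⁻¹ * c * y * (d⁻¹ * c)⁻¹ * y) * d⁻¹ := by group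
    _ = d * (y * (d⁻¹ * c * y * (d⁻¹ * c)⁻¹)) * d⁻¹ := by rw [this]
    _ = d * y * d⁻¹ * (c * y * c⁻¹) := by group

theorem mem_fitting_of_conj_commute {y : G} (h : ∀ g : G, g * y * g⁻¹ * y = y * (g * y * g⁻¹)) :
    y ∈ Cfsg.fittingSubgroup G := by
  haveI := normalClosure_comm h
  have hnil : Group.IsNilpotent (normalClosure ({y} : Set G)) :=
    letI : CommGroup (normalClosure ({y} : Set G)) :=
      { (inferInstance : Group (normalClosure ({y} : Set G))) with mul_comm := mul_comm' }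
    CommGroup.isNilpotent
  exact Cfsg.Lib.Components.le_fitting (N := normalClosure ({y} : Set G)) hnil
    (subset_normalClosure (Set.mem_singleton y))

theorem conj_commute_of_mem_nc {g y : G} (hg : g ∈ nc y) : g * y * g⁻¹ * y = y * (g * y * g⁻¹) :=
  mem_centralizer_singleton_iff.1 ((mem_normalizer_iff.1 hg y).1 (self_mem_cent y))

variable [Finite G]

theorem nilpotent_of_nc_top (h : ∀ x : G, x ≠ 1 → nc x = ⊤) : Group.IsNilpotent G := by
  have htop : Cfsg.fittingSubgroup G = ⊤ := eq_top_iff.2 fun y _ => by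
    rcases eq_or_ne y 1 with rfl | hy
    · exact one_mem _
    · exact mem_fitting_of_conj_commute fun g => conj_commute_of_mem_nc (h y hy ▸ mem_top g)
  have := Cfsg.Lib.Components.isNilpotent_fitting (G := G)
  rw [htop] at this
  exact Group.isNilpotent_top.mp this

theorem nilpotent_of_center (hT : Hyp G) (hz : center G ≠ ⊥) : Group.IsNilpotent G := by
  obtain ⟨⟨z, hz⟩, hz1⟩ := Subgroup.ne_bot_iff_exists_ne_one.1 hz
  have hz1' : z ≠ 1 := fun e => hz1 (Subtype.ext e)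
  have hzt : nc z = ⊤ := eq_top_iff.2 fun g _ => cent_le_nc z
    (mem_centralizer_singleton_iff.2 ((mem_center_iff.1 hz) g))
  exact nilpotent_of_nc_top fun x hx => by
    rw [nc_eq_of_commute hT hx hz1' ((mem_center_iff.1 hz) x), hzt]

/-- The nilpotent component of an element. -/
def comp (x : G) : Subgroup G := (Cfsg.fittingSubgroup (nc x)).map (nc x).subtype

theorem comp_le_nc (x : G) : comp x ≤ nc x := map_subtype_le _

theorem comp_nilpotent (x : G) : Group.IsNilpotent (comp x) :=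
  Cfsg.Lib.Components.isNilpotent_map Cfsg.Lib.Components.isNilpotent_fitting _

theorem mem_comp_of_nc_eq {x y : G} (h : nc y = nc x) : y ∈ comp x :=
  ⟨⟨y, h ▸ self_mem_nc y⟩, mem_fitting_of_conj_commute fun g =>
    Subtype.ext (conj_commute_of_mem_nc (show (g : G) ∈ nc y by rw [h]; exact g.2)), rfl⟩

theorem self_mem_comp (x : G) : x ∈ comp x := mem_comp_of_nc_eq rfl

theorem exists_central {x : G} (hx : x ≠ 1) :
    ∃ z ∈ comp x, z ≠ 1 ∧ ∀ w ∈ comp x, z * w = w * z := by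
  haveI := comp_nilpotent x
  haveI : Nontrivial (comp x) := ⟨⟨x, self_mem_comp x⟩, 1, fun e => hx (congrArg Subtype.val e)⟩
  obtain ⟨⟨z, hz⟩, hzc, hz1⟩ : ∃ z : comp x, z ∈ center (comp x) ∧ z ≠ 1 := by
    obtain ⟨⟨z, hz⟩, h⟩ := Subgroup.ne_bot_iff_exists_ne_one.1
      (Cfsg.Lib.Coprime.inf_center_ne_bot (⊤ : Subgroup (comp x)) top_ne_bot)
    exact ⟨z, hz.2, fun e => h (Subtype.ext e)⟩
  exact ⟨z, hz, fun e => hz1 (Subtype.ext e),
    fun w hw => congrArg Subtype.val ((mem_center_iff.1 hzc) ⟨w, hw⟩).symm⟩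

theorem nc_eq_of_mem_comp (hT : Hyp G) {x w : G} (hx : x ≠ 1) (hw : w ∈ comp x) (hw1 : w ≠ 1) :
    nc w = nc x := by
  obtain ⟨z, -, hz1, hzc⟩ := exists_central hx
  rw [← nc_eq_of_commute hT hz1 hw1 (hzc w hw), nc_eq_of_commute hT hz1 hx (hzc x (self_mem_comp x))]

theorem mem_comp_iff (hT : Hyp G) {x w : G} (hx : x ≠ 1) (hw1 : w ≠ 1) :
    w ∈ comp x ↔ nc w = nc x :=
  ⟨fun h => nc_eq_of_mem_comp hT hx h hw1, mem_comp_of_nc_eq⟩

theorem comp_eq_of_nc_eq (hT : Hyp G) {x y : G} (hx : x ≠ 1) (hy : y ≠ 1) (h : nc x = nc y) :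
    comp x = comp y := by
  ext w
  rcases eq_or_ne w 1 with rfl | hw
  · simp [one_mem]
  · rw [mem_comp_iff hT hx hw, mem_comp_iff hT hy hw, h]

theorem comp_eq_of_mem (hT : Hyp G) {x w : G} (hx : x ≠ 1) (hw : w ∈ comp x) (hw1 : w ≠ 1) :
    comp w = comp x :=
  comp_eq_of_nc_eq hT hw1 hx (nc_eq_of_mem_comp hT hx hw hw1)

theorem cent_le_comp (hT : Hyp G) {x : G} (hx : x ≠ 1) : centralizer ({x} : Set G) ≤ comp x := by
  intro c hc
  rcases eq_or_ne c 1 with rfl | hc1
  · exact one_mem _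
  · exact mem_comp_of_nc_eq (nc_eq_of_commute hT hc1 hx (mem_centralizer_singleton_iff.1 hc))

theorem cent_le_comp_of_mem (hT : Hyp G) {x w : G} (hx : x ≠ 1) (hw : w ∈ comp x) (hw1 : w ≠ 1) :
    centralizer ({w} : Set G) ≤ comp x :=
  comp_eq_of_mem hT hx hw hw1 ▸ cent_le_comp hT hw1

theorem isCN (hT : Hyp G) : Cfsg.IsCNGroup G := fun x hx =>
  Cfsg.Lib.Components.isNilpotent_of_le (comp_nilpotent x) (cent_le_comp hT hx)

theorem comp_conj (hT : Hyp G) (g : G) {x : G} (hx : x ≠ 1) (w : G) :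
    g * w * g⁻¹ ∈ comp (g * x * g⁻¹) ↔ w ∈ comp x := by
  rcases eq_or_ne w 1 with rfl | hw
  · simp [one_mem]
  · rw [mem_comp_iff hT (by rwa [ne_eq, conj_eq_one_iff]) (by rwa [ne_eq, conj_eq_one_iff]),
      mem_comp_iff hT hx hw, nc_conj_iff]

theorem normalizer_comp (hT : Hyp G) {x : G} (hx : x ≠ 1) : normalizer (comp x : Set G) = nc x := by
  obtain ⟨z, hz, hz1, hzc⟩ := exists_central hx
  have h : centralizer ({z} : Set G) = comp x :=
    le_antisymm (cent_le_comp_of_mem hT hx hz hz1) fun w hw =>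
      mem_centralizer_singleton_iff.2 (hzc w hw).symm
  rw [← h]
  exact nc_eq_of_mem_comp hT hx hz hz1

theorem comp_conj_mem (hT : Hyp G) {x n : G} (hx : x ≠ 1) (hn : n ∈ nc x) {w : G} :
    n * w * n⁻¹ ∈ comp x ↔ w ∈ comp x :=
  ((mem_normalizer_iff.1 (normalizer_comp hT hx ▸ hn)) w).symm

theorem comp_normal_in (hT : Hyp G) {x : G} (hx : x ≠ 1) : ((comp x).subgroupOf (nc x)).Normal :=
  ⟨fun w hw n => by
    rw [mem_subgroupOf] at hw ⊢
    exact (comp_conj_mem hT hx n.2).2 hw⟩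

/-- The components are TI-subgroups. -/
theorem mem_nc_of_meet (hT : Hyp G) {x g w : G} (hx : x ≠ 1) (hw : w ∈ comp x) (hw1 : w ≠ 1)
    (hgw : g * w * g⁻¹ ∈ comp x) : g ∈ nc x := by
  have hgw1 : g * w * g⁻¹ ≠ 1 := by rwa [ne_eq, conj_eq_one_iff]
  rw [← normalizer_comp hT hx, mem_normalizer_iff]
  intro u
  rw [← comp_eq_of_mem hT hx hw hw1, ← comp_conj hT g hw1, comp_eq_of_mem hT hx hgw hgw1,
    comp_eq_of_mem hT hx hw hw1]

theorem sylow_le_comp (hT : Hyp G) {x : G} (hx : x ≠ 1) {p : ℕ} [Fact p.Prime] (P : Sylow p G)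
    {w : G} (hwP : w ∈ (P : Subgroup G)) (hw : w ∈ comp x) (hw1 : w ≠ 1) :
    (P : Subgroup G) ≤ comp x := by
  haveI : Nontrivial (P : Subgroup G) := ⟨⟨w, hwP⟩, 1, fun e => hw1 (congrArg Subtype.val e)⟩
  haveI := P.2.center_nontrivial
  obtain ⟨⟨⟨z, hzP⟩, hz⟩, hz1⟩ := exists_ne (1 : center (P : Subgroup G))
  have hz1' : z ≠ 1 := fun e => hz1 (Subtype.ext (Subtype.ext e))
  have hc : ∀ u ∈ (P : Subgroup G), u * z = z * u := fun u hu =>
    congrArg Subtype.val ((mem_center_iff.1 hz) ⟨u, hu⟩)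
  have hzH : z ∈ comp x :=
    cent_le_comp_of_mem hT hx hw hw1 (mem_centralizer_singleton_iff.2 (hc w hwP).symm)
  exact fun u hu => cent_le_comp_of_mem hT hx hzH hz1' (mem_centralizer_singleton_iff.2 (hc u hu))

theorem exists_sylow_le_comp (hT : Hyp G) {x : G} (hx : x ≠ 1) {p : ℕ} [Fact p.Prime]
    (hp : p ∣ Nat.card (comp x)) : ∃ P : Sylow p G, (P : Subgroup G) ≤ comp x := by
  obtain ⟨⟨w, hw⟩, hwo⟩ := exists_prime_orderOf_dvd_card' (G := comp x) p hp
  rw [Subgroup.orderOf_mk] at hwo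
  have hw1 : w ≠ 1 := fun e => (Fact.out : p.Prime).ne_one (by rw [← hwo, e, orderOf_one])
  obtain ⟨P, hP⟩ := (IsPGroup.of_card (n := 1) (by rw [Nat.card_zpowers, hwo, pow_one]) :
    IsPGroup p (zpowers w)).exists_le_sylow
  exact ⟨P, sylow_le_comp hT hx P (hP (mem_zpowers w)) hw hw1⟩

theorem not_dvd_index_comp (hT : Hyp G) {x : G} (hx : x ≠ 1) {p : ℕ} [Fact p.Prime]
    (hp : p ∣ Nat.card (comp x)) : ¬ p ∣ (comp x).index := fun h => by
  obtain ⟨P, hP⟩ := exists_sylow_le_comp hT hx hp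
  exact P.not_dvd_index (h.trans (index_dvd_of_le hP))

theorem coprime_comp (hT : Hyp G) {x : G} (hx : x ≠ 1) :
    (Nat.card (comp x)).Coprime (comp x).index :=
  Nat.coprime_of_dvd fun p hp h1 h2 =>
    haveI := Fact.mk hp
    not_dvd_index_comp hT hx h1 h2

theorem comp_ne_top (hnn : ¬ Group.IsNilpotent G) (x : G) : comp x ≠ ⊤ := fun h => hnn (by
  have := comp_nilpotent x
  rw [h] at this
  exact Group.isNilpotent_top.mp this)

/-- A nontrivial abelian normal subgroup forces a normal component. -/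
theorem nc_top_of_abelian_normal (hT : Hyp G) {A : Subgroup G} (hA : A.Normal)
    (hab : ∀ a ∈ A, ∀ b ∈ A, a * b = b * a) {a : G} (ha : a ∈ A) (ha1 : a ≠ 1) : nc a = ⊤ :=
  eq_top_iff.2 fun g _ => by
    have hga : g * a * g⁻¹ ∈ A := hA.conj_mem a ha g
    exact mem_nc_of_meet hT ha1 (self_mem_comp a) ha1 (cent_le_comp hT ha1
      (mem_centralizer_singleton_iff.2 (hab _ hga _ ha)))

end Cfsg.Lib.TICent
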