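import Cfsg.Agent.TICentralizers.Basic
import Cfsg.Agent.InvolCalc.Dihedral
import Cfsg.Agent.Frobenius.Kernel
import Cfsg.Agent.OddLocal.CNFpf
import Cfsg.Agent.S0183

/-!
# Groups with TI element centralisers and no abelian normal subgroup: involutions
-/

set_option autoImplicit false
set_option linter.unusedSectionVars false
set_option linter.style.haveILetI false

namespace Cfsg.Lib.TICent

open Subgroup
open scoped Pointwise
open Cfsg.Lib.InvolCalc

universe u

variable {G : Type u} [Group G]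

/-- The second case: no abelian normal subgroup. -/
structure Setup (G : Type u) [Group G] : Prop where
  hT : Hyp G
  nt : Nontrivial G
  noab : ∀ A : Subgroup G, A.Normal → (∀ a ∈ A, ∀ b ∈ A, a * b = b * a) → A = ⊥

variable [Finite G] (S : Setup G) {s t u : G}

include S

theorem Setup.nc_ne_top {x : G} (hx : x ≠ 1) : nc x ≠ ⊤ := fun h => by
  haveI := normalClosure_comm (y := x) fun g => conj_commute_of_mem_nc (h ▸ mem_top g)
  have h1 := S.noab (normalClosure ({x} : Set G)) inferInstance fun a ha b hb =>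
    congrArg Subtype.val (mul_comm' (⟨a, ha⟩ : normalClosure ({x} : Set G)) ⟨b, hb⟩)
  exact hx (mem_bot.1 (h1 ▸ subset_normalClosure (Set.mem_singleton x)))

theorem Setup.nilpotent_normal_eq_bot {N : Subgroup G} [N.Normal] (hN : Group.IsNilpotent N) : N = ⊥ := by
  by_contra hne
  haveI := hN
  haveI : Nontrivial N := (nontrivial_iff_ne_bot N).2 hne
  have h1 := S.noab ((center N).map N.subtype) ConjAct.normal_of_characteristic_of_normal (by
    rintro _ ⟨a, ha, rfl⟩ _ ⟨b, -, rfl⟩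
    exact congrArg Subtype.val ((mem_center_iff.1 ha) b).symm)
  rw [Subgroup.map_eq_bot_iff_of_injective _ N.subtype_injective] at h1
  exact Cfsg.Lib.Coprime.inf_center_ne_bot (⊤ : Subgroup N) top_ne_bot (by rw [h1, inf_bot_eq])

theorem Setup.exists_invol : ∃ t : G, orderOf t = 2 := by
  by_contra h
  haveI := S.nt
  have hodd : Odd (Nat.card G) := by
    rw [Nat.odd_iff, ← Nat.two_dvd_ne_zero]
    exact fun h2 => h (exists_prime_orderOf_dvd_card' (G := G) 2 h2)
  haveI : Group.IsSolvable G := Cfsg.Agent.S0183.result hodd (isCN S.hT)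
  exact Cfsg.Lib.Coprime.fitting_ne_bot
    (S.nilpotent_normal_eq_bot (N := Cfsg.fittingSubgroup G) Cfsg.Lib.Components.isNilpotent_fitting)

theorem Setup.two_dvd_comp (ht : orderOf t = 2) : 2 ∣ Nat.card (comp t) := by
  rw [← ht, ← Subgroup.orderOf_mk t (self_mem_comp t)]
  exact orderOf_dvd_natCard _

theorem Setup.not_dvd_index (ht : orderOf t = 2) : ¬ 2 ∣ (comp t).index :=
  not_dvd_index_comp S.hT (ne_one_of_order_two ht) (S.two_dvd_comp ht)

theorem Setup.invol_mem (ht : orderOf t = 2) (hs : orderOf s = 2) (h : s ∈ nc t) : s ∈ comp t := by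
  haveI := comp_normal_in S.hT (ne_one_of_order_two ht)
  have hodd : ¬ 2 ∣ (comp t).relIndex (nc t) := fun h2 =>
    S.not_dvd_index ht (h2.trans (relIndex_dvd_index_of_le (comp_le_nc t)))
  obtain ⟨m, hm⟩ := Nat.odd_iff.2 (Nat.two_dvd_ne_zero.1 hodd)
  have h1 := Subgroup.pow_index_mem ((comp t).subgroupOf (nc t)) ⟨s, h⟩
  rw [← Subgroup.relIndex, hm, mem_subgroupOf, SubmonoidClass.coe_pow, pow_add, pow_mul, pow_two,
    sq_of_order_two hs, one_pow, one_mul, pow_one] at h1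
  exact h1

theorem Setup.nc_eq_of_invol (ht : orderOf t = 2) (hs : orderOf s = 2) (h : s ∈ nc t) : nc s = nc t :=
  nc_eq_of_mem_comp S.hT (ne_one_of_order_two ht) (S.invol_mem ht hs h) (ne_one_of_order_two hs)

theorem Setup.exists_outside (ht : orderOf t = 2) : ∃ u : G, orderOf u = 2 ∧ u ∉ nc t := by
  by_contra h
  push Not at h
  refine S.nc_ne_top (ne_one_of_order_two ht) (eq_top_iff.2 fun g _ => ?_)
  have h2 : orderOf (g * t * g⁻¹) = 2 :=
    (MulEquiv.orderOf_eq (MulAut.conj g) t).trans ht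
  exact mem_nc_of_meet S.hT (ne_one_of_order_two ht) (self_mem_comp t) (ne_one_of_order_two ht)
    (S.invol_mem ht h2 (h _ h2))

theorem Setup.conj_of_ne (hs : orderOf s = 2) (hu : orderOf u = 2) (h : nc s ≠ nc u) :
    ∃ g : G, g * s * g⁻¹ = u := by
  rcases Nat.even_or_odd (orderOf (s * u)) with he | ho
  · obtain ⟨hj, hjs, hju⟩ := central_spec hs hu he
    exact absurd ((nc_eq_of_commute S.hT (ne_one_of_order_two hs) (ne_one_of_order_two hj) hjs.symm.eq).trans
      (nc_eq_of_commute S.hT (ne_one_of_order_two hj) (ne_one_of_order_two hu) hju.eq)) h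
  · obtain ⟨d, -, hd⟩ := conj_of_odd hs hu ho
    exact ⟨d, hd⟩

theorem Setup.conj_all (hs : orderOf s = 2) (hu : orderOf u = 2) : ∃ g : G, g * s * g⁻¹ = u := by
  by_cases h : nc s = nc u
  · obtain ⟨w, hw, hwn⟩ := S.exists_outside hs
    have h1 : nc s ≠ nc w := fun e => hwn (e ▸ self_mem_nc w)
    obtain ⟨g, hg⟩ := S.conj_of_ne hs hw h1
    obtain ⟨k, hk⟩ := S.conj_of_ne hw hu (fun e => h1 (h.trans e.symm))
    exact ⟨k * g, by rw [← hk, ← hg]; group⟩
  · exact S.conj_of_ne hs hu h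

theorem Setup.comp_comm (ht : orderOf t = 2) {w : G} (hw : w ∈ comp t) : t * w = w * t := by
  have ht1 := ne_one_of_order_two ht
  haveI := comp_nilpotent t
  haveI : Fact (Nat.Prime 2) := ⟨Nat.prime_two⟩
  obtain ⟨P⟩ := (inferInstance : Nonempty (Sylow 2 (comp t)))
  haveI : (P : Subgroup (comp t)).Normal := Cfsg.Lib.CN.sylow_normal_of_nilpotent P
  have hP : (P : Subgroup (comp t)) ≠ ⊥ := P.ne_bot_of_dvd_card (S.two_dvd_comp ht)
  obtain ⟨⟨z0, hz0⟩, hz01⟩ := Subgroup.ne_bot_iff_exists_ne_one.1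
    (Cfsg.Lib.Coprime.inf_center_ne_bot (P : Subgroup (comp t)) hP)
  haveI : Nontrivial ↥((P : Subgroup (comp t)) ⊓ center (comp t)) := ⟨⟨z0, hz0⟩, 1, hz01⟩
  obtain ⟨n, hn⟩ := IsPGroup.iff_card.1 (P.2.to_le (inf_le_left (b := center (comp t))))
  have hn0 : n ≠ 0 := fun e => by
    rw [e, pow_zero] at hn
    have := Finite.one_lt_card (α := ↥((P : Subgroup (comp t)) ⊓ center (comp t)))
    omega
  obtain ⟨⟨⟨z, hzH⟩, hz⟩, hzo⟩ := exists_prime_orderOf_dvd_card'
    (G := ↥((P : Subgroup (comp t)) ⊓ center (comp t))) 2 (by rw [hn]; exact dvd_pow_self 2 hn0)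
  rw [Subgroup.orderOf_mk, Subgroup.orderOf_mk] at hzo
  have hzc : ∀ v ∈ comp t, z * v = v * z := fun v hv =>
    congrArg Subtype.val ((mem_center_iff.1 hz.2) ⟨v, hv⟩).symm
  have hz1 := ne_one_of_order_two hzo
  have hcz : comp z = comp t := comp_eq_of_mem S.hT ht1 hzH hz1
  obtain ⟨g, hg⟩ := S.conj_all hzo ht
  have h1 : g⁻¹ * w * g ∈ comp t := by
    rw [← hcz, ← comp_conj S.hT g hz1, hg]
    rwa [show g * (g⁻¹ * w * g) * g⁻¹ = w by group]
  have h2 := hzc _ h1
  calc t * w = g * (z * (g⁻¹ * w * g)) * g⁻¹ := by rw [← hg]; group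
    _ = g * (g⁻¹ * w * g * z) * g⁻¹ := by rw [h2]
    _ = w * t := by rw [← hg]; group

theorem Setup.cent_eq (ht : orderOf t = 2) : centralizer ({t} : Set G) = comp t :=
  le_antisymm (cent_le_comp S.hT (ne_one_of_order_two ht)) fun _ hw =>
    mem_centralizer_singleton_iff.2 (S.comp_comm ht hw).symm

end Cfsg.Lib.TICent

namespace Cfsg.Lib.TICent

open Subgroup
open scoped Pointwise
open Cfsg.Lib.InvolCalc

universe u

variable {G : Type u} [Group G] [Finite G] {t : G}

/-- The number of involutions in a component. -/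
noncomputable def ninv (t : G) : ℕ := Nat.card {s : G // orderOf s = 2 ∧ s ∈ nc t}

theorem Setup.card_inv (S : Setup G) (ht : orderOf t = 2) :
    Nat.card {s : G // orderOf s = 2} = (comp t).index := by
  have hgt : ∀ g : G, orderOf (g * t * g⁻¹) = 2 := fun g =>
    (MulEquiv.orderOf_eq (MulAut.conj g) t).trans ht
  symm
  refine Nat.card_eq_of_bijective (fun c : G ⧸ comp t => (⟨c.out * t * c.out⁻¹, hgt c.out⟩ :
    {s : G // orderOf s = 2})) ⟨fun c c' h => ?_, fun s => ?_⟩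
  · have h' : c.out * t * c.out⁻¹ = c'.out * t * c'.out⁻¹ := congrArg Subtype.val h
    rw [← QuotientGroup.out_eq' c, ← QuotientGroup.out_eq' c', QuotientGroup.eq]
    refine (S.cent_eq ht).le (mem_centralizer_singleton_iff.2 ?_)
    calc c.out⁻¹ * c'.out * t = c.out⁻¹ * (c'.out * t * c'.out⁻¹) * c'.out := by group
      _ = c.out⁻¹ * (c.out * t * c.out⁻¹) * c'.out := by rw [h']
      _ = t * (c.out⁻¹ * c'.out) := by group
  · obtain ⟨g, hg⟩ := S.conj_all ht s.2
    obtain ⟨k, hk⟩ := QuotientGroup.mk_out_eq_mul (comp t) g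
    refine ⟨(g : G ⧸ comp t), Subtype.ext ?_⟩
    show (g : G ⧸ comp t).out * t * (g : G ⧸ comp t).out⁻¹ = s
    rw [hk, ← hg]
    calc g * k * t * (g * (k : G))⁻¹ = g * ((k : G) * t) * (k : G)⁻¹ * g⁻¹ := by group
      _ = g * (t * (k : G)) * (k : G)⁻¹ * g⁻¹ := by rw [S.comp_comm ht k.2]
      _ = g * t * g⁻¹ := by group

theorem Setup.card_ninv (S : Setup G) (ht : orderOf t = 2) : ninv t = (comp t).relIndex (nc t) := by
  have hgt : ∀ g : G, orderOf (g * t * g⁻¹) = 2 := fun g =>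
    (MulEquiv.orderOf_eq (MulAut.conj g) t).trans ht
  have hmem : ∀ g : G, g ∈ nc t → g * t * g⁻¹ ∈ nc t := fun g hg =>
    (nc t).mul_mem ((nc t).mul_mem hg (self_mem_nc t)) ((nc t).inv_mem hg)
  symm
  refine Nat.card_eq_of_bijective (fun c : nc t ⧸ (comp t).subgroupOf (nc t) =>
    (⟨(c.out : G) * t * (c.out : G)⁻¹, hgt _, hmem _ c.out.2⟩ :
    {s : G // orderOf s = 2 ∧ s ∈ nc t})) ⟨fun c c' h => ?_, fun s => ?_⟩
  · have h' : (c.out : G) * t * (c.out : G)⁻¹ = (c'.out : G) * t * (c'.out : G)⁻¹ := congrArg Subtype.val h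
    rw [← QuotientGroup.out_eq' c, ← QuotientGroup.out_eq' c', QuotientGroup.eq, mem_subgroupOf]
    refine (S.cent_eq ht).le (mem_centralizer_singleton_iff.2 ?_)
    push_cast
    calc (c.out : G)⁻¹ * c'.out * t = (c.out : G)⁻¹ * ((c'.out : G) * t * (c'.out : G)⁻¹) * c'.out := by group
      _ = (c.out : G)⁻¹ * ((c.out : G) * t * (c.out : G)⁻¹) * c'.out := by rw [h']
      _ = t * ((c.out : G)⁻¹ * c'.out) := by group
  · obtain ⟨g, hg⟩ := S.conj_all ht s.2.1
    have hgn : g ∈ nc t := mem_nc_of_meet S.hT (ne_one_of_order_two ht) (self_mem_comp t)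
      (ne_one_of_order_two ht) (hg ▸ S.invol_mem ht s.2.1 s.2.2)
    obtain ⟨k, hk⟩ := QuotientGroup.mk_out_eq_mul ((comp t).subgroupOf (nc t)) ⟨g, hgn⟩
    refine ⟨QuotientGroup.mk (⟨g, hgn⟩ : nc t), Subtype.ext ?_⟩
    dsimp only
    rw [hk, ← hg, Subgroup.coe_mul]
    calc g * ((k : nc t) : G) * t * (g * ((k : nc t) : G))⁻¹
        = g * (((k : nc t) : G) * t) * ((k : nc t) : G)⁻¹ * g⁻¹ := by group
      _ = g * (t * ((k : nc t) : G)) * ((k : nc t) : G)⁻¹ * g⁻¹ := by
        rw [S.comp_comm ht (mem_subgroupOf.1 k.2)]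
      _ = g * t * g⁻¹ := by group

theorem Setup.ninv_mul_index (S : Setup G) (ht : orderOf t = 2) :
    ninv t * (nc t).index = (comp t).index := by
  rw [S.card_ninv ht, relIndex_mul_index (comp_le_nc t)]

theorem Setup.ninv_odd (S : Setup G) (ht : orderOf t = 2) : Odd (ninv t) := by
  rw [Nat.odd_iff, ← Nat.two_dvd_ne_zero]
  exact fun h => S.not_dvd_index ht (h.trans ⟨_, (S.ninv_mul_index ht).symm⟩)

theorem Setup.ninv_ne_one (S : Setup G) (ht : orderOf t = 2) : ninv t ≠ 1 := by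
  intro h
  have ht1 := ne_one_of_order_two ht
  rw [S.card_ninv ht, relIndex_eq_one] at h
  have hne : nc t ≠ ⊤ := S.nc_ne_top ht1
  have hH : Cfsg.IsFrobeniusComplement (comp t) := by
    refine ⟨fun e => ht1 (mem_bot.1 (e ▸ self_mem_comp t)),
      fun e => hne (top_le_iff.1 (e ▸ comp_le_nc t)), fun g hg => ?_⟩
    rw [eq_bot_iff]
    rintro x ⟨hx, hx'⟩
    obtain ⟨w, hw, rfl⟩ := hx'
    by_contra hne1
    refine hg (h (mem_nc_of_meet S.hT ht1 hw (fun e => hne1 (mem_bot.2 ?_)) hx))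
    simp [e]
  obtain ⟨N, hNk, hNn, hNc⟩ := Cfsg.Lib.Frobenius.exists_kernel hH
  obtain ⟨hinv, -, -⟩ := Cfsg.Lib.Frobenius.involution_inverts (a := 1) hH
    (show t ∈ Cfsg.Lib.Coprime.conjMap 1 (comp t) by
      rw [Cfsg.Lib.Coprime.conjMap_one]; exact self_mem_comp t) ht1 (sq_of_order_two ht)
  have hN : N = ⊥ := S.noab N hNn fun a ha b hb => by
    have e1 := hinv (a * b) (by rw [← hNk]; exact N.mul_mem ha hb)
    have ea := hinv a (by rw [← hNk]; exact ha)
    have eb := hinv b (by rw [← hNk]; exact hb)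
    rw [← conj_mul, ea, eb, ← mul_inv_rev, inv_inj] at e1
    exact e1.symm
  exact hH.2.1 (isComplement'_bot_left.1 (hN ▸ hNc))

end Cfsg.Lib.TICent
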