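import Cfsg.Agent.TICentralizers.Involutions
import Mathlib.GroupTheory.FixedPointFree

/-!
# Groups with TI element centralisers and no abelian normal subgroup: the permutation representation
-/

set_option autoImplicit false
set_option linter.unusedSectionVars false
set_option linter.style.haveILetI false

namespace Cfsg.Lib.TICent

open Subgroup MulAction
open Cfsg.Lib.InvolCalc

universe u

variable {G : Type u} [Group G] [Finite G] {t : G}

/-- The points. -/
abbrev Pt (t : G) : Type u := G ⧸ nc t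

/-- The base point. -/
abbrev base (t : G) : Pt t := ((1 : G) : Pt t)

theorem smul_base (g : G) : g • base t = (g : Pt t) := by
  rw [base, Quotient.smul_coe, smul_eq_mul, mul_one]

theorem smul_base_eq_iff {g : G} : g • base t = base t ↔ g ∈ nc t := by
  rw [smul_base, base, QuotientGroup.eq, mul_one, inv_mem_iff]

theorem stab_base : stabilizer G (base t) = nc t := by
  ext g
  rw [mem_stabilizer_iff, smul_base_eq_iff]

theorem stab_coe (g : G) : stabilizer G (g : Pt t) = nc (g * t * g⁻¹) := by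
  ext x
  rw [mem_stabilizer_iff, ← smul_base, ← mul_smul,
    show x * g = g * (g⁻¹ * x * g) by group, mul_smul, smul_left_cancel_iff, smul_base_eq_iff,
    ← nc_conj g t, show g * (g⁻¹ * x * g) * g⁻¹ = x by group]

theorem exists_rep (c : Pt t) : ∃ g : G, g • base t = c := by
  induction c using QuotientGroup.induction_on with
  | H g => exact ⟨g, smul_base g⟩

theorem orderOf_conj (g x : G) : orderOf (g * x * g⁻¹) = orderOf x :=
  MulEquiv.orderOf_eq (MulAut.conj g) x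

theorem swap_back {v : G} (hv : orderOf v = 2) {c d : Pt t} (h : v • c = d) : v • d = c := by
  rw [← h, ← mul_smul, sq_of_order_two hv, one_smul]

variable (S : Setup G) (ht : orderOf t = 2)

include S ht

theorem stab_invol {v : G} (hv : orderOf v = 2) {c : Pt t} (h : v • c = c) :
    stabilizer G c = nc v := by
  obtain ⟨g, rfl⟩ := exists_rep c
  rw [smul_base] at h ⊢
  have hm : v ∈ nc (g * t * g⁻¹) := stab_coe g ▸ mem_stabilizer_iff.2 h
  rw [stab_coe, S.nc_eq_of_invol ((orderOf_conj g t).trans ht) hv hm]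

theorem fixed_unique {v : G} (hv : orderOf v = 2) {c d : Pt t} (hc : v • c = c) (hd : v • d = d) :
    c = d := by
  have ht1 := ne_one_of_order_two ht
  obtain ⟨g, rfl⟩ := exists_rep c
  obtain ⟨k, rfl⟩ := exists_rep d
  have h := (stab_invol S ht hv hc).trans (stab_invol S ht hv hd).symm
  simp only [smul_base, stab_coe] at h
  have h1 : nc (g⁻¹ * k * t * (g⁻¹ * k)⁻¹) = nc t := by
    rw [← nc_conj_iff g, h, show g * (g⁻¹ * k * t * (g⁻¹ * k)⁻¹) * g⁻¹ = k * t * k⁻¹ by group]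
  have h2 : g⁻¹ * k ∈ nc t :=
    mem_nc_of_meet S.hT ht1 (self_mem_comp t) ht1 (mem_comp_of_nc_eq h1)
  rw [smul_base, smul_base, QuotientGroup.eq]
  exact h2

/-- Two involutions outside the normaliser in the same coset of a component coincide. -/
theorem coset_unique {v v' : G} (hv : orderOf v = 2) (hvn : v ∉ nc t) (hv' : orderOf v' = 2)
    (h : v⁻¹ * v' ∈ comp t) : v = v' := by
  by_contra hne
  refine hvn (mem_nc_of_meet S.hT (ne_one_of_order_two ht) h (fun e => hne (inv_mul_eq_one.1 e)) ?_)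
  have h2 := (comp t).inv_mem h
  rw [mul_inv_rev, inv_inv, inv_of_order_two hv'] at h2
  rwa [← mul_assoc, mul_inv_cancel, one_mul, inv_of_order_two hv]

theorem coset_exists {g : G} (hg : g ∉ nc t) {n : G} (hn : n ∈ nc t) :
    ∃ v : G, orderOf v = 2 ∧ v ∉ nc t ∧ v⁻¹ * (g * n) ∈ comp t := by
  classical
  have hm : ∀ v : G, (v : Pt t).out⁻¹ * v ∈ nc t := fun v => by
    rw [← QuotientGroup.eq, QuotientGroup.out_eq']
  let Φ : {v : G // orderOf v = 2 ∧ v ∉ nc t} →
      {c : Pt t // c ≠ base t} × (nc t ⧸ (comp t).subgroupOf (nc t)) := fun v =>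
    (⟨(v.1 : Pt t), fun e => v.2.2 (by rwa [base, QuotientGroup.eq, mul_one, inv_mem_iff] at e)⟩,
      QuotientGroup.mk (⟨(v.1 : Pt t).out⁻¹ * v.1, hm v.1⟩ : nc t))
  have hΦ : Function.Injective Φ := by
    rintro ⟨v, hv, hvn⟩ ⟨v', hv', hvn'⟩ h
    simp only [Φ, Prod.mk.injEq, Subtype.mk.injEq] at h
    obtain ⟨h1, h2⟩ := h
    rw [QuotientGroup.eq, mem_subgroupOf] at h2
    simp only [Subgroup.coe_mul, Subgroup.coe_inv, ← h1] at h2
    refine Subtype.ext (coset_unique S ht hv hvn hv' ?_)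
    rwa [mul_inv_rev, inv_inv, mul_assoc, mul_inv_cancel_left] at h2
  have hpos : 0 < (nc t).index := Nat.pos_of_ne_zero Subgroup.index_ne_zero_of_finite
  have hcard : Nat.card {v : G // orderOf v = 2 ∧ v ∉ nc t} =
      Nat.card ({c : Pt t // c ≠ base t} × (nc t ⧸ (comp t).subgroupOf (nc t))) := by
    have e1 : Nat.card {v : G // orderOf v = 2} =
        ninv t + Nat.card {v : G // orderOf v = 2 ∧ v ∉ nc t} := by
      rw [← Nat.card_congr (Equiv.sumCompl (fun v : {v : G // orderOf v = 2} => v.1 ∈ nc t)),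
        Nat.card_sum]
      exact congrArg₂ (· + ·) (Nat.card_congr (Equiv.subtypeSubtypeEquivSubtypeInter _ (· ∈ nc t)))
        (Nat.card_congr (Equiv.subtypeSubtypeEquivSubtypeInter _ (· ∉ nc t)))
    have e2 : Nat.card {c : Pt t // c ≠ base t} + 1 = (nc t).index := by
      have := Nat.card_congr (Equiv.sumCompl (fun c : Pt t => c = base t))
      rw [Nat.card_sum, Nat.card_unique (α := {c : Pt t // c = base t})] at this
      rw [Subgroup.index, ← this, add_comm]
    rw [Nat.card_prod, ← Subgroup.index_eq_card ((comp t).subgroupOf (nc t)), ← Subgroup.relIndex,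
      ← S.card_ninv ht]
    rw [S.card_inv ht, ← S.ninv_mul_index ht, ← e2, mul_add, mul_one] at e1
    rw [mul_comm]
    omega
  have hgc : (g : Pt t) ≠ base t := fun e => hg (by rwa [base, QuotientGroup.eq, mul_one, inv_mem_iff] at e)
  have hgn : (g : Pt t).out⁻¹ * (g * n) ∈ nc t := by
    rw [← mul_assoc]
    exact (nc t).mul_mem (hm g) hn
  obtain ⟨⟨v, hv, hvn⟩, hev⟩ := (hΦ.bijective_of_nat_card_le hcard.ge).2
    (⟨(g : Pt t), hgc⟩, QuotientGroup.mk (⟨(g : Pt t).out⁻¹ * (g * n), hgn⟩ : nc t))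
  simp only [Φ, Prod.mk.injEq, Subtype.mk.injEq] at hev
  obtain ⟨h1, h2⟩ := hev
  rw [QuotientGroup.eq, mem_subgroupOf] at h2
  simp only [Subgroup.coe_mul, Subgroup.coe_inv, h1] at h2
  refine ⟨v, hv, hvn, ?_⟩
  rwa [mul_inv_rev, inv_inv, mul_assoc, mul_inv_cancel_left] at h2

theorem exists_swap_base {c : Pt t} (hc : c ≠ base t) : ∃ v : G, orderOf v = 2 ∧ v • base t = c := by
  obtain ⟨g, rfl⟩ := exists_rep c
  obtain ⟨v, hv, -, h⟩ := coset_exists S ht (fun h => hc (smul_base_eq_iff.2 h)) (nc t).one_mem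
  refine ⟨v, hv, ?_⟩
  rw [smul_base, smul_base, QuotientGroup.eq]
  exact comp_le_nc t (by rwa [mul_one] at h)

theorem comp_meet_base {w : G} (hw : w ∈ comp t) {c : Pt t} (hc : c ≠ base t) (hwc : w • c = c) :
    w = 1 := by
  have ht1 := ne_one_of_order_two ht
  obtain ⟨v, hv, rfl⟩ := exists_swap_base S ht hc
  have hvn : v ∉ nc t := fun h => hc (smul_base_eq_iff.2 h)
  by_contra hw1
  have hb : v * w * v⁻¹ ∈ nc t := by
    rw [← smul_base_eq_iff, mul_smul, inv_of_order_two hv, mul_smul, hwc, ← mul_smul,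
      sq_of_order_two hv, one_smul]
  generalize hb' : v * w * v⁻¹ = b at hb
  have hc1 : w * b * w⁻¹ * b⁻¹ ∈ comp t := by
    rw [show w * b * w⁻¹ * b⁻¹ = w * (b * w⁻¹ * b⁻¹) by group]
    exact (comp t).mul_mem hw ((comp_conj_mem S.hT ht1 hb).2 ((comp t).inv_mem hw))
  have hc2 : b * w * b⁻¹ * w⁻¹ ∈ comp t :=
    (comp t).mul_mem ((comp_conj_mem S.hT ht1 hb).2 hw) ((comp t).inv_mem hw)
  have hbw : v * b * v⁻¹ = w := by
    rw [← hb', show v * (v * w * v⁻¹) * v⁻¹ = (v * v) * w * (v * v)⁻¹ by group, sq_of_order_two hv]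
    group
  have h3 : v * (w * b * w⁻¹ * b⁻¹) * v⁻¹ ∈ comp t := by
    rw [show v * (w * b * w⁻¹ * b⁻¹) * v⁻¹ =
      (v * w * v⁻¹) * (v * b * v⁻¹) * (v * w * v⁻¹)⁻¹ * (v * b * v⁻¹)⁻¹ by group, hb', hbw]
    exact hc2
  have h4 : w * b * w⁻¹ * b⁻¹ = 1 := by
    by_contra hne
    exact hvn (mem_nc_of_meet S.hT ht1 hc1 hne h3)
  have h5 : b * w = w * b := by
    calc b * w = (w * b * w⁻¹ * b⁻¹) * (b * w) := by rw [h4, one_mul]
      _ = w * b := by group
  exact hvn (mem_nc_of_meet S.hT ht1 hw hw1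
    (hb' ▸ cent_le_comp_of_mem S.hT ht1 hw hw1 (mem_centralizer_singleton_iff.2 h5)))

theorem decomp_base {c : Pt t} (hc : c ≠ base t) {n : G} (hn : n ∈ nc t) :
    ∃ d : G, d • base t = base t ∧ d • c = c ∧ d⁻¹ * n ∈ comp t ∧
      ∀ v : G, orderOf v = 2 → v • base t = c → ∃ v' : G, orderOf v' = 2 ∧ v' = v * d := by
  have ht1 := ne_one_of_order_two ht
  have key : ∀ v : G, orderOf v = 2 → v • base t = c →
      ∃ d : G, d • base t = base t ∧ d • c = c ∧ d⁻¹ * n ∈ comp t ∧ orderOf (v * d) = 2 := by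
    intro v hv hvc
    have hvn : v ∉ nc t := fun h => hc (hvc.symm.trans (smul_base_eq_iff.2 h))
    obtain ⟨v', hv', -, h⟩ := coset_exists S ht hvn hn
    have hv'c : v' • base t = c := by
      rw [← hvc, smul_base, smul_base, QuotientGroup.eq]
      have := (nc t).mul_mem (comp_le_nc t h) ((nc t).inv_mem hn)
      rwa [show v'⁻¹ * (v * n) * n⁻¹ = v'⁻¹ * v by group] at this
    refine ⟨v * v', by rw [mul_smul, hv'c]; exact swap_back hv hvc,
      by rw [mul_smul, swap_back hv' hv'c, hvc], ?_, ?_⟩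
    · rwa [mul_inv_rev, inv_of_order_two hv, mul_assoc]
    · rwa [← mul_assoc, sq_of_order_two hv, one_mul]
  obtain ⟨v₀, hv₀, hv₀c⟩ := exists_swap_base S ht hc
  obtain ⟨d, hd1, hd2, hd3, -⟩ := key v₀ hv₀ hv₀c
  refine ⟨d, hd1, hd2, hd3, fun v hv hvc => ?_⟩
  obtain ⟨e, he1, he2, he3, he4⟩ := key v hv hvc
  have hde : e⁻¹ * d ∈ comp t := by
    rw [show e⁻¹ * d = e⁻¹ * n * (d⁻¹ * n)⁻¹ by group]
    exact (comp t).mul_mem he3 ((comp t).inv_mem hd3)
  have := comp_meet_base S ht hde hc (by rw [mul_smul, hd2, inv_smul_eq_iff, he2])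
  rw [inv_mul_eq_one] at this
  exact ⟨_, he4, by rw [this]⟩

/-- An involution exchanging two points inverts their common stabiliser. -/
theorem swap_inverts {v : G} (hv : orderOf v = 2) {c c' : Pt t} (hcc : c ≠ c') (hvc : v • c = c')
    {x : G} (hx : x • c = c) (hx' : x • c' = c') : v * x * v⁻¹ = x⁻¹ := by
  obtain ⟨g, rfl⟩ := exists_rep c
  set v₁ := g⁻¹ * v * g with hv₁def
  set x₁ := g⁻¹ * x * g with hx₁def
  have hv₁ : orderOf v₁ = 2 := by
    rw [hv₁def, show g⁻¹ * v * g = g⁻¹ * v * g⁻¹⁻¹ by rw [inv_inv], orderOf_conj, hv]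
  have hx₁ : x₁ ∈ nc t := smul_base_eq_iff.1 (by rw [hx₁def, mul_smul, mul_smul, hx, inv_smul_smul])
  have hvb : v₁ • base t = g⁻¹ • c' := by rw [hv₁def, mul_smul, mul_smul, hvc]
  have hne : g⁻¹ • c' ≠ base t := fun e => hcc (by rw [← e, smul_inv_smul])
  obtain ⟨d, hd1, hd2, hd3, hd4⟩ := decomp_base S ht hne hx₁
  have hxd : d⁻¹ * x₁ = 1 := comp_meet_base S ht hd3 hne (by
    rw [mul_smul, hx₁def, mul_smul, mul_smul, smul_inv_smul, hx', inv_smul_eq_iff, hd2])
  rw [inv_mul_eq_one] at hxd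
  obtain ⟨v', hv', hv'e⟩ := hd4 v₁ hv₁ hvb
  have h1 := sq_of_order_two hv'
  rw [hv'e, hxd] at h1
  have h2 : v₁ * x₁ * v₁⁻¹ = x₁⁻¹ := by
    rw [inv_of_order_two hv₁]
    exact eq_inv_of_mul_eq_one_left (by rwa [mul_assoc (v₁ * x₁)])
  calc v * x * v⁻¹ = g * (v₁ * x₁ * v₁⁻¹) * g⁻¹ := by rw [hv₁def, hx₁def]; group
    _ = x⁻¹ := by rw [h2, hx₁def]; group

theorem card_swap {c c' : Pt t} (hcc : c ≠ c') :
    Nat.card {v : G // orderOf v = 2 ∧ v • c = c'} = ninv t := by
  classical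
  obtain ⟨g, rfl⟩ := exists_rep c
  have hne : g⁻¹ • c' ≠ base t := fun e => hcc (by rw [← e, smul_inv_smul])
  obtain ⟨k, hk⟩ := exists_rep (g⁻¹ • c')
  have hkn : k ∉ nc t := fun h => hne (hk.symm.trans (smul_base_eq_iff.2 h))
  rw [S.card_ninv ht, relIndex, index_eq_card]
  have hmem : ∀ v : {v : G // orderOf v = 2 ∧ v • g • base t = c'},
      k⁻¹ * (g⁻¹ * v.1 * g) ∈ nc t := fun v => smul_base_eq_iff.1 (by
    rw [mul_smul, mul_smul, mul_smul, v.2.2, ← hk, inv_smul_smul])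
  refine Nat.card_eq_of_bijective (fun v : {v : G // orderOf v = 2 ∧ v • g • base t = c'} =>
    QuotientGroup.mk (s := (comp t).subgroupOf (nc t)) (⟨k⁻¹ * (g⁻¹ * v.1 * g), hmem v⟩ : nc t))
    ⟨fun v w h => ?_, fun q => ?_⟩
  · simp only [QuotientGroup.eq, mem_subgroupOf, Subgroup.coe_mul, Subgroup.coe_inv] at h
    have hw2 : orderOf (g⁻¹ * w.1 * g) = 2 := by
      rw [show g⁻¹ * w.1 * g = g⁻¹ * w.1 * g⁻¹⁻¹ by rw [inv_inv], orderOf_conj]; exact w.2.1
    have hv2 : orderOf (g⁻¹ * v.1 * g) = 2 := by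
      rw [show g⁻¹ * v.1 * g = g⁻¹ * v.1 * g⁻¹⁻¹ by rw [inv_inv], orderOf_conj]; exact v.2.1
    have hvn : g⁻¹ * v.1 * g ∉ nc t := fun hm => hne (by
      rw [← smul_base_eq_iff.2 hm, mul_smul, mul_smul, v.2.2])
    have := coset_unique S ht hv2 hvn hw2 (by
      rwa [mul_inv_rev, inv_inv, mul_assoc, mul_inv_cancel_left] at h)
    exact Subtype.ext (by simpa using this)
  · induction q using QuotientGroup.induction_on with
    | H n =>
      obtain ⟨v, hv, -, h⟩ := coset_exists S ht hkn n.2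
      refine ⟨⟨g * v * g⁻¹, by rw [orderOf_conj, hv], ?_⟩, ?_⟩
      · have hvk : v • base t = k • base t := by
          rw [smul_base, smul_base, QuotientGroup.eq]
          have := (nc t).mul_mem (comp_le_nc t h) ((nc t).inv_mem n.2)
          rwa [show v⁻¹ * (k * n) * (n : G)⁻¹ = v⁻¹ * k by group] at this
        rw [mul_smul, mul_smul, inv_smul_smul, hvk, hk, smul_inv_smul]
      · rw [QuotientGroup.eq, mem_subgroupOf]
        simp only [Subgroup.coe_mul, Subgroup.coe_inv]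
        rwa [show (k⁻¹ * (g⁻¹ * (g * v * g⁻¹) * g))⁻¹ * (n : G) = v⁻¹ * (k * n) by group]

theorem ninv_pos : 0 < ninv t := (S.ninv_odd ht).pos

theorem exists_swap {c c' : Pt t} (hcc : c ≠ c') : ∃ v : G, orderOf v = 2 ∧ v • c = c' := by
  have h := card_swap S ht hcc
  have := ninv_pos S ht
  obtain ⟨v⟩ := (Nat.card_pos_iff.1 (h ▸ this)).1
  exact ⟨v.1, v.2⟩

/-- The two-point stabiliser. -/
abbrev pair (c c' : Pt t) : Subgroup G := stabilizer G c ⊓ stabilizer G c'

omit S ht in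
theorem mem_pair {c c' : Pt t} {x : G} : x ∈ pair c c' ↔ x • c = c ∧ x • c' = c' := Iff.rfl

theorem pair_comm {c c' : Pt t} (hcc : c ≠ c') {x y : G} (hx : x ∈ pair c c') (hy : y ∈ pair c c') :
    x * y = y * x := by
  obtain ⟨v, hv, hvc⟩ := exists_swap S ht hcc
  have hxy := swap_inverts S ht hv hcc hvc (mem_pair.1 (mul_mem hx hy)).1 (mem_pair.1 (mul_mem hx hy)).2
  rw [← conj_mul, swap_inverts S ht hv hcc hvc hx.1 hx.2, swap_inverts S ht hv hcc hvc hy.1 hy.2,
    ← mul_inv_rev, inv_inj] at hxy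
  exact hxy.symm

theorem comp_meet {v : G} (hv : orderOf v = 2) {c : Pt t} (hvc : v • c = c) {w : G} (hw : w ∈ comp v)
    {c' : Pt t} (hcc : c' ≠ c) (hwc : w • c' = c') : w = 1 := by
  have hv1 := ne_one_of_order_two hv
  have ht1 := ne_one_of_order_two ht
  obtain ⟨g, rfl⟩ := exists_rep c
  have hn : nc v = nc (g * t * g⁻¹) := by
    rw [← stab_invol S ht hv hvc, smul_base, stab_coe]
  rw [comp_eq_of_nc_eq S.hT hv1 (by rwa [ne_eq, conj_eq_one_iff]) hn,
    show w = g * (g⁻¹ * w * g) * g⁻¹ by group, comp_conj S.hT g ht1] at hw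
  have h1 := comp_meet_base S ht hw (c := g⁻¹ • c') (fun e => hcc (by rw [← e, smul_inv_smul]))
    (by rw [mul_smul, mul_smul, smul_inv_smul, hwc])
  calc w = g * (g⁻¹ * w * g) * g⁻¹ := by group
    _ = 1 := by rw [h1]; group

theorem decomp {c c' : Pt t} (hcc : c' ≠ c) {x : G} (hx : x • c = c) :
    ∃ d ∈ pair c c', ∃ v : G, orderOf v = 2 ∧ v • c = c ∧ d⁻¹ * x ∈ comp v := by
  have ht1 := ne_one_of_order_two ht
  obtain ⟨g, rfl⟩ := exists_rep c
  have hx₁ : g⁻¹ * x * g ∈ nc t := smul_base_eq_iff.1 (by rw [mul_smul, mul_smul, hx, inv_smul_smul])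
  obtain ⟨d, hd1, hd2, hd3, -⟩ := decomp_base S ht (c := g⁻¹ • c')
    (fun e => hcc (by rw [← e, smul_inv_smul])) hx₁
  refine ⟨g * d * g⁻¹, mem_pair.2 ⟨by rw [mul_smul, inv_smul_smul, mul_smul, hd1],
    by rw [mul_smul, mul_smul, hd2, smul_inv_smul]⟩, g * t * g⁻¹, (orderOf_conj g t).trans ht,
    by rw [mul_smul, inv_smul_smul, mul_smul, smul_base_eq_iff.2 (self_mem_nc t)], ?_⟩
  rw [show (g * d * g⁻¹)⁻¹ * x = g * (d⁻¹ * (g⁻¹ * x * g)) * g⁻¹ by group, comp_conj S.hT g ht1]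
  exact hd3

theorem card_pair {c c' : Pt t} (hcc : c ≠ c') : Nat.card (pair c c') = ninv t := by
  obtain ⟨g, rfl⟩ := exists_rep c
  have hne : g⁻¹ • c' ≠ base t := fun e => hcc (by rw [← e, smul_inv_smul])
  rw [S.card_ninv ht, relIndex, index_eq_card]
  have hmem : ∀ x : pair (g • base t) c', g⁻¹ * x.1 * g ∈ nc t := fun x =>
    smul_base_eq_iff.1 (by rw [mul_smul, mul_smul, x.2.1, inv_smul_smul])
  refine Nat.card_eq_of_bijective (fun x : pair (g • base t) c' =>
    QuotientGroup.mk (s := (comp t).subgroupOf (nc t)) (⟨g⁻¹ * x.1 * g, hmem x⟩ : nc t))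
    ⟨fun x y h => ?_, fun q => ?_⟩
  · simp only [QuotientGroup.eq, mem_subgroupOf, Subgroup.coe_mul, Subgroup.coe_inv] at h
    rw [show (g⁻¹ * x.1 * g)⁻¹ * (g⁻¹ * y.1 * g) = g⁻¹ * (x.1⁻¹ * y.1) * g by group] at h
    have hxy := mem_pair.1 ((pair (g • base t) c').mul_mem ((pair (g • base t) c').inv_mem x.2) y.2)
    have h1 := comp_meet_base S ht h hne (by rw [mul_smul, mul_smul, smul_inv_smul, hxy.2])
    refine Subtype.ext (inv_mul_eq_one.1 ?_)
    calc x.1⁻¹ * y.1 = g * (g⁻¹ * (x.1⁻¹ * y.1) * g) * g⁻¹ := by group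
      _ = 1 := by rw [h1]; group
  · induction q using QuotientGroup.induction_on with
    | H n =>
      obtain ⟨d, hd1, hd2, hd3, -⟩ := decomp_base S ht hne n.2
      refine ⟨⟨g * d * g⁻¹, mem_pair.2 ⟨by rw [mul_smul, inv_smul_smul, mul_smul, hd1],
        by rw [mul_smul, mul_smul, hd2, smul_inv_smul]⟩⟩, ?_⟩
      rw [QuotientGroup.eq, mem_subgroupOf]
      simp only [Subgroup.coe_mul, Subgroup.coe_inv]
      rwa [show (g⁻¹ * (g * d * g⁻¹) * g)⁻¹ * (n : G) = d⁻¹ * n by group]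

theorem pair_sq {c c' : Pt t} (hcc : c ≠ c') {x : G} (hx : x ∈ pair c c') (h2 : x * x = 1) : x = 1 := by
  by_contra h1
  have h3 : orderOf (⟨x, hx⟩ : pair c c') ∣ Nat.card (pair c c') := orderOf_dvd_natCard _
  rw [card_pair S ht hcc, Subgroup.orderOf_mk, order_two_of_mul_self h2 h1] at h3
  exact Nat.not_even_iff_odd.2 (S.ninv_odd ht) (even_iff_two_dvd.2 h3)

theorem exists_pair_ne_one {c c' : Pt t} (hcc : c ≠ c') : ∃ x ∈ pair c c', x ≠ 1 := by
  by_contra h
  push Not at h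
  have hb : pair c c' = ⊥ := (Subgroup.eq_bot_iff_forall _).2 h
  exact S.ninv_ne_one ht (by rw [← card_pair S ht hcc, hb, Subgroup.card_bot])

section TwoPoints

variable {a b : Pt t} (hab : a ≠ b) {d₀ : G} (hd₀ : d₀ ∈ pair a b) (hd₁ : d₀ ≠ 1)

include hab hd₀ hd₁

theorem comp_no_invol {v : G} (hv : orderOf v = 2) : v ∉ comp d₀ := by
  intro hm
  have hcomp : comp v = comp d₀ := comp_eq_of_mem S.hT hd₁ hm (ne_one_of_order_two hv)
  obtain ⟨g, hg⟩ := S.conj_all ht hv
  have hvc : v • (g • base t) = g • base t := by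
    rw [← hg, mul_smul, inv_smul_smul, mul_smul, smul_base_eq_iff.2 (self_mem_nc t)]
  have hm' : d₀ ∈ comp v := hcomp ▸ self_mem_comp d₀
  rcases eq_or_ne a (g • base t) with h | h
  · exact hd₁ (comp_meet S ht hv hvc hm' (h ▸ hab.symm) hd₀.2)
  · exact hd₁ (comp_meet S ht hv hvc hm' h hd₀.1)

theorem comp_inverted {v : G} (hv : orderOf v = 2) (hvd : v * d₀ * v⁻¹ = d₀⁻¹) :
    ∀ k ∈ comp d₀, v * k * v⁻¹ = k⁻¹ := by
  have hvn : v ∈ nc d₀ := mem_nc_of_meet S.hT hd₁ (self_mem_comp d₀) hd₁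
    (by rw [hvd]; exact (comp d₀).inv_mem (self_mem_comp d₀))
  let φ : comp d₀ →* comp d₀ :=
    { toFun := fun k => ⟨v * k * v⁻¹, (comp_conj_mem S.hT hd₁ hvn).2 k.2⟩
      map_one' := Subtype.ext (by simp)
      map_mul' := fun x y => Subtype.ext (by simp [mul_assoc]) }
  have hφ : MonoidHom.FixedPointFree φ := by
    intro k hk
    by_contra hk1
    have hk1' : (k : G) ≠ 1 := fun e => hk1 (Subtype.ext e)
    have hc : v * (k : G) = k * v := mul_inv_eq_iff_eq_mul.1 (congrArg Subtype.val hk)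
    exact comp_no_invol S ht hab hd₀ hd₁ hv (mem_comp_of_nc_eq
      ((nc_eq_of_commute S.hT (ne_one_of_order_two hv) hk1' hc).trans
        (nc_eq_of_mem_comp S.hT hd₁ k.2 hk1')))
  have h2 : Function.Involutive φ := fun k => Subtype.ext (by
    show v * (v * (k : G) * v⁻¹) * v⁻¹ = k
    rw [show v * (v * (k : G) * v⁻¹) * v⁻¹ = v * v * k * (v * v)⁻¹ by group, sq_of_order_two hv]
    simp)
  intro k hk
  exact congrArg Subtype.val (congrFun (hφ.coe_eq_inv_of_involutive h2) ⟨k, hk⟩)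

theorem pair_le_comp : pair a b ≤ comp d₀ := fun _ hx =>
  cent_le_comp S.hT hd₁ (mem_centralizer_singleton_iff.2 (pair_comm S ht hab hx hd₀))

theorem comp_comm' {x y : G} (hx : x ∈ comp d₀) (hy : y ∈ comp d₀) : x * y = y * x := by
  obtain ⟨v, hv, hva⟩ := exists_swap S ht hab
  have hvd := swap_inverts S ht hv hab hva hd₀.1 hd₀.2
  have e := comp_inverted S ht hab hd₀ hd₁ hv hvd (x * y) ((comp d₀).mul_mem hx hy)
  rw [← conj_mul, comp_inverted S ht hab hd₀ hd₁ hv hvd x hx, comp_inverted S ht hab hd₀ hd₁ hv hvd y hy,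
    ← mul_inv_rev, inv_inj] at e
  exact e.symm

theorem cent_pair : centralizer (pair a b : Set G) = comp d₀ := by
  refine le_antisymm (fun x hx => cent_le_comp S.hT hd₁ (mem_centralizer_singleton_iff.2 ?_)) fun x hx => ?_
  · exact (mem_centralizer_iff.1 hx d₀ hd₀).symm
  · exact mem_centralizer_iff.2 fun y hy =>
      comp_comm' S ht hab hd₀ hd₁ (pair_le_comp S ht hab hd₀ hd₁ hy) hx

end TwoPoints

/-- A two-point stabiliser fixes only two points. -/
theorem fix_pair {a b : Pt t} (hab : a ≠ b) {c : Pt t} (hc : ∀ x ∈ pair a b, x • c = c) :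
    c = a ∨ c = b := by
  classical
  obtain ⟨d₀, hd₀, hd₁⟩ := exists_pair_ne_one S ht hab
  set D := pair a b
  have hK := cent_pair S ht hab hd₀ hd₁
  let F : Set (Pt t) := {c | ∀ x ∈ D, x • c = c}
  have haF : a ∈ F := fun x hx => hx.1
  have hbF : b ∈ F := fun x hx => hx.2
  have hother : ∀ c : Pt t, ∃ c' ∈ F, c' ≠ c := fun c => by
    rcases eq_or_ne a c with h | h
    · exact ⟨b, hbF, h ▸ hab.symm⟩
    · exact ⟨a, haF, h⟩
  have hpairF : ∀ c ∈ F, ∀ c' ∈ F, c ≠ c' → pair c c' = D := fun c hc c' hc' hne =>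
    (Subgroup.eq_of_le_of_card_ge (fun x hx => mem_pair.2 ⟨hc x hx, hc' x hx⟩)
      (le_of_eq ((card_pair S ht hne).trans (card_pair S ht hab).symm))).symm
  let T := {v : G // orderOf v = 2 ∧ ∀ x ∈ D, v * x * v⁻¹ = x⁻¹}
  obtain ⟨u, hu, hua⟩ := exists_swap S ht hab
  have huD : ∀ x ∈ D, u * x * u⁻¹ = x⁻¹ := fun x hx => swap_inverts S ht hu hab hua hx.1 hx.2
  have hu' := comp_inverted S ht hab hd₀ hd₁ hu (huD d₀ hd₀)
  have hcardT : Nat.card T = Nat.card (comp d₀) := by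
    symm
    refine Nat.card_eq_of_bijective (fun k : comp d₀ => (⟨k.1 * u, order_two_of_mul_self ?_ (fun e => ?_),
      fun x hx => ?_⟩ : T)) ⟨fun k k' h => ?_, fun v => ?_⟩
    · calc (k : G) * u * ((k : G) * u) = (k : G) * (u * (k : G) * u⁻¹) * (u * u) := by group
        _ = 1 := by rw [hu' k k.2, sq_of_order_two hu]; group
    · exact comp_no_invol S ht hab hd₀ hd₁ hu (by
        rw [eq_inv_of_mul_eq_one_right e]
        exact (comp d₀).inv_mem k.2)
    · have h1 := mem_centralizer_iff.1 (hK.ge k.2) x⁻¹ (D.inv_mem hx)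
      calc (k : G) * u * x * ((k : G) * u)⁻¹ = (k : G) * (u * x * u⁻¹) * (k : G)⁻¹ := by group
        _ = x⁻¹ * (k : G) * (k : G)⁻¹ := by rw [huD x hx, h1]
        _ = x⁻¹ := by group
    · exact Subtype.ext (mul_right_cancel (congrArg Subtype.val h))
    · refine ⟨⟨v.1 * u⁻¹, hK.le (mem_centralizer_iff.2 fun x hx => ?_)⟩,
        Subtype.ext (inv_mul_cancel_right _ _)⟩
      have h1 : u⁻¹ * x = x⁻¹ * u⁻¹ := by
        rw [← huD x hx, inv_of_order_two hu, mul_assoc (u * x), sq_of_order_two hu, mul_one]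
      have h2 : v.1 * x⁻¹ = x * v.1 := by
        have := v.2.2 x⁻¹ (D.inv_mem hx)
        rw [inv_inv] at this
        calc v.1 * x⁻¹ = v.1 * x⁻¹ * v.1⁻¹ * v.1 := by group
          _ = x * v.1 := by rw [this]
      calc x * (v.1 * u⁻¹) = (x * v.1) * u⁻¹ := by group
        _ = v.1 * (x⁻¹ * u⁻¹) := by rw [← h2]; group
        _ = v.1 * u⁻¹ * x := by rw [← h1]; group
  have hTF : ∀ v : T, ∀ c ∈ F, v.1 • c ∈ F := fun v c hc x hx => by
    have h1 : x * v.1 = v.1 * x⁻¹ := by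
      have := v.2.2 x⁻¹ (D.inv_mem hx)
      rw [inv_inv] at this
      calc x * v.1 = v.1 * x⁻¹ * v.1⁻¹ * v.1 := by rw [this]
        _ = v.1 * x⁻¹ := by group
    rw [← mul_smul, h1, mul_smul, hc _ (D.inv_mem hx)]
  have hTne : ∀ v : T, ∀ c ∈ F, v.1 • c ≠ c := by
    intro v c hc hvc
    obtain ⟨c', hc', hne⟩ := hother c
    have hv1 := ne_one_of_order_two v.2.1
    have hdn : d₀ ∈ nc v.1 := by
      rw [← stab_invol S ht v.2.1 hvc]
      exact mem_stabilizer_iff.2 (hc d₀ hd₀)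
    have hw : d₀⁻¹ * d₀⁻¹ ∈ comp v.1 := by
      have h1 := (comp v.1).mul_mem (self_mem_comp v.1)
        ((comp_conj_mem S.hT hv1 hdn).2 ((comp v.1).inv_mem (self_mem_comp v.1)))
      rwa [show v.1 * (d₀ * v.1⁻¹ * d₀⁻¹) = (v.1 * d₀ * v.1⁻¹) * d₀⁻¹ by group, v.2.2 d₀ hd₀] at h1
    have hm : d₀⁻¹ * d₀⁻¹ ∈ D := D.mul_mem (D.inv_mem hd₀) (D.inv_mem hd₀)
    have h1 := comp_meet S ht v.2.1 hvc hw hne (hc' _ hm)
    rw [← mul_inv_rev, inv_eq_one] at h1
    exact hd₁ (pair_sq S ht hab hd₀ h1)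
  have : Fintype (Pt t) := Fintype.ofFinite _
  have hcount : Nat.card (comp d₀) * Nat.card F =
      ninv t * Nat.card {p : F × F // p.1 ≠ p.2} := by
    rw [← hcardT, ← Nat.card_prod]
    have : Fintype {p : F × F // p.1 ≠ p.2} := Fintype.ofFinite _
    rw [← Nat.card_eq_of_bijective (α := Σ p : {p : F × F // p.1 ≠ p.2},
        {v : G // orderOf v = 2 ∧ v • (p.1.1 : Pt t) = (p.1.2 : Pt t)}) (β := T × F)
      (fun q => ((⟨q.2.1, q.2.2.1, fun x hx => swap_inverts S ht q.2.2.1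
        (fun e => q.1.2 (Subtype.ext e)) q.2.2.2 (q.1.1.1.2 x hx) (q.1.1.2.2 x hx)⟩ : T), q.1.1.1)) ?_,
      Nat.card_sigma]
    · rw [Finset.sum_congr rfl (fun p _ => card_swap S ht (fun e => p.2 (Subtype.ext e))),
        Finset.sum_const, Finset.card_univ, smul_eq_mul, Nat.card_eq_fintype_card, mul_comm]
    · refine ⟨fun q q' h => ?_, fun z => ?_⟩
      · obtain ⟨⟨⟨p1, p2⟩, hp⟩, ⟨v, hv, hvp⟩⟩ := q
        obtain ⟨⟨⟨p1', p2'⟩, hp'⟩, ⟨v', hv', hvp'⟩⟩ := q'
        obtain rfl : v = v' := congrArg (fun z : T × F => z.1.1) h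
        obtain rfl : p1 = p1' := congrArg (fun z : T × F => z.2) h
        have : p2 = p2' := Subtype.ext (hvp.symm.trans hvp')
        subst this
        rfl
      · exact ⟨⟨⟨(z.2, ⟨z.1.1 • (z.2 : Pt t), hTF z.1 _ z.2.2⟩),
          fun e => hTne z.1 _ z.2.2 (congrArg Subtype.val e).symm⟩, ⟨z.1.1, z.1.2.1, rfl⟩⟩, rfl⟩
  have hF2 : 2 ≤ Nat.card F := by
    have : Nontrivial F := ⟨⟨a, haF⟩, ⟨b, hbF⟩, fun e => hab (congrArg Subtype.val e)⟩
    exact Finite.one_lt_card
  have hoff : Nat.card {p : F × F // p.1 ≠ p.2} + Nat.card F = Nat.card F * Nat.card F := by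
    rw [← Nat.card_prod, ← Nat.card_congr (Equiv.sumCompl (fun p : F × F => p.1 = p.2)), Nat.card_sum,
      add_comm]
    congr 1
    exact Nat.card_congr
      ⟨fun x => ⟨(x, x), rfl⟩, fun p => p.1.1, fun x => rfl, fun p => Subtype.ext (Prod.ext rfl p.2)⟩
  have hkappa : Nat.card (comp d₀) = ninv t * (Nat.card F - 1) := by
    apply Nat.eq_of_mul_eq_mul_right (show 0 < Nat.card F by omega)
    rw [hcount, mul_assoc, Nat.sub_one_mul]
    congr 1
    omega
  have horb : ∀ c ∈ F, (orbit (comp d₀) c).ncard = Nat.card F - 1 ∧ orbit (comp d₀) c ⊆ F := by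
    intro c hc
    refine ⟨?_, ?_⟩
    · rw [← index_stabilizer]
      have hst : Nat.card (stabilizer (comp d₀) c) = ninv t := by
        rw [← card_pair S ht hab]
        refine Nat.card_congr
          { toFun := fun x => ⟨x.1.1, ?_⟩
            invFun := fun x => ⟨⟨x.1, pair_le_comp S ht hab hd₀ hd₁ x.2⟩, hc x.1 x.2⟩
            left_inv := fun _ => rfl
            right_inv := fun _ => rfl }
        obtain ⟨c', hc', hne⟩ := hother c
        obtain ⟨d, hd, v, hv, hvc, hcomp⟩ := decomp S ht hne (show x.1.1 • c = c from x.2)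
        rw [hpairF c hc c' hc' hne.symm] at hd
        have hmem : d⁻¹ * x.1.1 ∈ comp d₀ :=
          (comp d₀).mul_mem ((comp d₀).inv_mem (pair_le_comp S ht hab hd₀ hd₁ hd)) x.1.2
        by_cases h1 : d⁻¹ * x.1.1 = 1
        · rw [inv_mul_eq_one] at h1
          exact h1 ▸ hd
        · exfalso
          refine comp_no_invol S ht hab hd₀ hd₁ hv (mem_comp_of_nc_eq ?_)
          rw [← nc_eq_of_mem_comp S.hT (ne_one_of_order_two hv) hcomp h1,
            nc_eq_of_mem_comp S.hT hd₁ hmem h1]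
      have h1 := (stabilizer (comp d₀) c).card_mul_index
      rw [hst, hkappa] at h1
      exact Nat.eq_of_mul_eq_mul_left (ninv_pos S ht) h1
    · rintro _ ⟨k, rfl⟩ x hx
      show x • (k.1 • c) = k.1 • c
      rw [← mul_smul, mem_centralizer_iff.1 (hK.ge k.2) x hx, mul_smul, hc x hx]
  have hle2 : Nat.card F ≤ 2 := by
    obtain ⟨h1, h2⟩ := horb a haF
    obtain ⟨c', hc', hcn⟩ : ∃ c' ∈ F, c' ∉ orbit (comp d₀) a := by
      by_contra h
      push Not at h
      have := Set.ncard_le_ncard (show F ⊆ orbit (comp d₀) a from h) (Set.toFinite _)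
      rw [Nat.card_coe_set_eq] at h1 hF2
      omega
    obtain ⟨h3, h4⟩ := horb c' hc'
    have hdis : Disjoint (orbit (comp d₀) a) (orbit (comp d₀) c') := by
      rw [Set.disjoint_left]
      intro z hz hz'
      refine hcn ?_
      rw [← orbit_eq_iff.2 hz, orbit_eq_iff.2 hz']
      exact mem_orbit_self c'
    have := Set.ncard_le_ncard (Set.union_subset h2 h4) (Set.toFinite F)
    rw [Set.ncard_union_eq hdis (Set.toFinite _) (Set.toFinite _)] at this
    rw [Nat.card_coe_set_eq] at h1 h3 hF2 ⊢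
    omega
  by_contra h
  push Not at h
  have hsub : ({a, b, c} : Set (Pt t)) ⊆ F := by
    intro z hz
    rcases hz with rfl | rfl | hz
    · exact haF
    · exact hbF
    · rw [Set.mem_singleton_iff] at hz; subst hz; exact hc
  have h3 := Set.ncard_le_ncard hsub (Set.toFinite F)
  rw [Set.ncard_eq_three.2 ⟨a, b, c, hab, h.1.symm, h.2.symm, rfl⟩, ← Nat.card_coe_set_eq] at h3
  omega

theorem three_point {x : G} {a b c : Pt t} (hab : a ≠ b) (hbc : b ≠ c) (hac : a ≠ c)
    (ha : x • a = a) (hb : x • b = b) (hc : x • c = c) : x = 1 := by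
  by_contra hx1
  have hx : x ∈ pair a b := mem_pair.2 ⟨ha, hb⟩
  have hle : pair a c ≤ pair a b := fun y hy => by
    have hyK : y ∈ comp x := cent_le_comp S.hT hx1
      (mem_centralizer_singleton_iff.2 (pair_comm S ht hac hy (mem_pair.2 ⟨ha, hc⟩)))
    obtain ⟨d, hd, v, hv, hvc, hcomp⟩ := decomp S ht hab.symm hy.1
    have hmem : d⁻¹ * y ∈ comp x :=
      (comp x).mul_mem ((comp x).inv_mem (pair_le_comp S ht hab hx hx1 hd)) hyK
    by_cases h1 : d⁻¹ * y = 1
    · rw [inv_mul_eq_one] at h1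
      exact h1 ▸ hd
    · exfalso
      refine comp_no_invol S ht hab hx hx1 hv (mem_comp_of_nc_eq ?_)
      rw [← nc_eq_of_mem_comp S.hT (ne_one_of_order_two hv) hcomp h1,
        nc_eq_of_mem_comp S.hT hx1 hmem h1]
  have heq := Subgroup.eq_of_le_of_card_ge hle
    (le_of_eq ((card_pair S ht hab).trans (card_pair S ht hac).symm))
  rcases fix_pair S ht hab (fun y hy => (show y ∈ pair a c by rw [heq]; exact hy).2) with h | h
  · exact hac h.symm
  · exact hbc h.symm

/-- The kernel is regular on the other points. -/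
theorem orbit_regular :
    Nat.card (Pt t) = Nat.card (comp t) + 1 ∧
      ∀ c c' : Pt t, c ≠ base t → c' ≠ base t → ∃ w ∈ comp t, w • c = c' := by
  classical
  have hfix : ∀ w ∈ comp t, w • base t = base t := fun w hw => smul_base_eq_iff.2 (comp_le_nc t hw)
  let Ω' := {c : Pt t // c ≠ base t}
  have hΩ : Nat.card (Pt t) = Nat.card Ω' + 1 := by
    have := Nat.card_congr (Equiv.sumCompl (fun c : Pt t => c = base t))
    rw [Nat.card_sum, Nat.card_unique (α := {c : Pt t // c = base t})] at this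
    rw [← this, add_comm]
  have hup : Nat.card Ω' ≤ Nat.card (comp t) := by
    let X := Σ c : Ω', {x : pair (base t) c.1 // x ≠ 1}
    let f : X → {x : nc t // x ∉ (comp t).subgroupOf (nc t)} := fun q =>
      ⟨⟨q.2.1.1, smul_base_eq_iff.1 q.2.1.2.1⟩, fun hm => q.2.2 (Subtype.ext
        (comp_meet_base S ht (mem_subgroupOf.1 hm) q.1.2 q.2.1.2.2))⟩
    have hf : Function.Injective f := by
      rintro ⟨⟨c, hc⟩, ⟨⟨x, hx⟩, hx1⟩⟩ ⟨⟨c', hc'⟩, ⟨⟨x', hx'⟩, hx1'⟩⟩ h
      have hxx : x = x' := congrArg (fun z => ((z.1 : nc t) : G)) h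
      subst hxx
      have hcc : c = c' := by
        by_contra hne
        exact hx1 (Subtype.ext (three_point S ht (Ne.symm hc) hne (Ne.symm hc') hx.1 hx.2 hx'.2))
      subst hcc
      rfl
    have h1 := Nat.card_le_card_of_injective f hf
    have hsub : ∀ {A : Type u} [Group A] [Finite A] (H : Subgroup A),
        Nat.card {x : A // x ∉ H} + Nat.card H = Nat.card A := fun H => by
      rw [← Nat.card_congr (Equiv.sumCompl (fun x => x ∈ H)), Nat.card_sum, add_comm]
    have : Fintype Ω' := Fintype.ofFinite _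
    have hX : Nat.card X = Nat.card Ω' * (ninv t - 1) := by
      rw [Nat.card_sigma, Finset.sum_congr rfl (fun c _ => show _ = ninv t - 1 from ?_),
        Finset.sum_const, Finset.card_univ, smul_eq_mul, Nat.card_eq_fintype_card]
      have h2 := hsub (⊥ : Subgroup (pair (base t) c.1))
      rw [Subgroup.card_bot, card_pair S ht (Ne.symm c.2)] at h2
      simp only [Subgroup.mem_bot] at h2
      exact Nat.eq_sub_of_add_eq h2
    have hN := hsub ((comp t).subgroupOf (nc t))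
    have hN2 := ((comp t).subgroupOf (nc t)).card_mul_index
    rw [← Subgroup.relIndex, ← S.card_ninv ht] at hN2
    rw [Nat.card_congr (subgroupOfEquivOfLe (comp_le_nc t)).toEquiv] at hN hN2
    rw [hX] at h1
    have h3 : Nat.card (comp t) * (ninv t - 1) =
        Nat.card {x : nc t // x ∉ (comp t).subgroupOf (nc t)} := by
      rw [Nat.mul_sub_one]
      omega
    rw [← h3] at h1
    have := S.ninv_ne_one ht
    have := ninv_pos S ht
    exact Nat.le_of_mul_le_mul_right h1 (by omega)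
  have hmap : ∀ (c : Ω') (w : comp t), w.1 • c.1 ≠ base t := fun c w e => c.2 (by
    rw [← inv_smul_smul w.1 c.1, e, hfix _ ((comp t).inv_mem w.2)])
  have hinj : ∀ c : Ω', Function.Injective (fun w : comp t => (⟨w.1 • c.1, hmap c w⟩ : Ω')) := by
    intro c w w' h
    have h' : w.1 • c.1 = w'.1 • c.1 := congrArg Subtype.val h
    have := comp_meet_base S ht ((comp t).mul_mem ((comp t).inv_mem w'.2) w.2) c.2
      (by rw [mul_smul, h', inv_smul_smul])
    exact Subtype.ext (inv_mul_eq_one.1 this).symm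
  obtain ⟨u, hu, hun⟩ := S.exists_outside ht
  have hne : Nonempty Ω' := ⟨⟨u • base t, fun e => hun (smul_base_eq_iff.1 e)⟩⟩
  have heq : Nat.card Ω' = Nat.card (comp t) :=
    le_antisymm hup (Nat.card_le_card_of_injective _ (hinj hne.some))
  refine ⟨by rw [hΩ, heq], fun c c' hc hc' => ?_⟩
  obtain ⟨w, hw⟩ := ((hinj ⟨c, hc⟩).bijective_of_nat_card_le (le_of_eq heq)).2 ⟨c', hc'⟩
  exact ⟨w.1, w.2, congrArg Subtype.val hw⟩

theorem two_le_card_comp : 2 ≤ Nat.card (comp t) := by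
  haveI : Nontrivial (comp t) := ⟨⟨t, self_mem_comp t⟩, 1,
    fun e => ne_one_of_order_two ht (congrArg Subtype.val e)⟩
  exact Finite.one_lt_card

theorem two_transitive : IsMultiplyPretransitive G (Pt t) 2 := by
  rw [is_two_pretransitive_iff]
  intro a b c d hab hcd
  obtain ⟨g, rfl⟩ := exists_rep a
  obtain ⟨k, rfl⟩ := exists_rep c
  obtain ⟨w, hw, hwe⟩ := (orbit_regular S ht).2 (g⁻¹ • b) (k⁻¹ • d)
    (fun e => hab (by rw [← e, smul_inv_smul])) (fun e => hcd (by rw [← e, smul_inv_smul]))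
  refine ⟨k * w * g⁻¹, ?_, ?_⟩
  · rw [mul_smul, inv_smul_smul, mul_smul, smul_base_eq_iff.2 (comp_le_nc t hw)]
  · rw [mul_smul, mul_smul, hwe, smul_inv_smul]

theorem faithful : FaithfulSMul G (Pt t) := by
  classical
  have : Fintype (Pt t) := Fintype.ofFinite _
  have hcard : 2 < Fintype.card (Pt t) := by
    rw [← Nat.card_eq_fintype_card, (orbit_regular S ht).1]
    have := two_le_card_comp S ht
    omega
  obtain ⟨a, b, c, hab, hac, hbc⟩ := Fintype.two_lt_card_iff.1 hcard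
  refine ⟨fun {g k} h => ?_⟩
  have h1 : ∀ p : Pt t, (k⁻¹ * g) • p = p := fun p => by rw [mul_smul, h p, inv_smul_smul]
  have := three_point S ht hab hbc hac (h1 a) (h1 b) (h1 c)
  exact (inv_mul_eq_one.1 this).symm

end Cfsg.Lib.TICent
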